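import Mathlib
import Cfsg.Agent.NE.Tools
import Cfsg.Prelude.Def_CaseTheorems

/-!
Simple groups with a Sylow 2-subgroup of order 128 containing an element of order 8: the notions.
See `stubs/Cfsg/Agent/C128/PLAN.md`.
-/

set_option autoImplicit false

namespace Cfsg.Agent.C128

open Cfsg.Agent.Inv.Fz Cfsg.Agent.NE Subgroup

/-- The standing hypotheses. -/
structure Cx (G : Type*) [Group G] where
  T : Subgroup G
  x : G
  syl : IsSylIn 2 T ⊤
  simple : IsSimpleGroup G
  nc : ¬ IsMulCommutative G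
  s1 : ∀ g w : G, orderOf w = 8 → g * w = w * g → ∃ k : ℕ, g ^ 2 ^ k = 1
  s2 : ∀ g : G, orderOf g ≠ 14
  s3 : ∀ p : ℕ, p.Prime → p ∣ Nat.card G → p = 2 ∨ p = 3 ∨ p = 5 ∨ p = 7
  card : Nat.card T = 128
  xT : x ∈ T
  ox : orderOf x = 8

variable {G : Type*} [Group G] (c : Cx G)

/-- `M` meets `T` in a subgroup of index at most two. -/
def Cx.Ix (M : Subgroup G) : Prop := ∀ a ∈ c.T, ∀ b ∈ c.T, a ∉ M → b ∉ M → a * b ∈ M

/-- An elementary abelian subgroup of order 32 of `T`. -/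
structure Cx.El (E : Subgroup G) : Prop where
  le : E ≤ c.T
  card : Nat.card E = 32
  sq : ∀ a ∈ E, a * a = 1

/-- `A` has index two in `T` and its squares are `1` and `z`. -/
structure Cx.B (A : Subgroup G) (z : G) : Prop where
  le : A ≤ c.T
  card : Nat.card A = 64
  z1 : z ≠ 1
  z2 : z * z = 1
  sq : ∀ a ∈ A, a * a = 1 ∨ a * a = z

end Cfsg.Agent.C128
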