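import Mathlib
import Cfsg.Agent.C128.Defs
import Cfsg.Agent.Blk.ZStar
import Cfsg.Agent.GT.Conj
import Cfsg.Agent.GT.PPrimeCore

/-! Transfer and fusion lemmas (PLAN: CBas). See `stubs/Cfsg/Agent/C128/PLAN.md`. -/

set_option autoImplicit false
set_option linter.unusedSectionVars false

namespace Cfsg.Agent.C128

open Cfsg.Agent.Inv.Fz Cfsg.Agent.NE Subgroup

variable {G : Type*} [Group G] [Finite G]

theorem Cx.noIdx (c : Cx G) : NoIdx G := by
  have := c.simple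
  refine noIdx_of_simple fun e => ?_
  have := c.T.card_le_card_group
  rw [c.card, e] at this
  omega

theorem Cx.ix_of_card (c : Cx G) {M : Subgroup G} (h : M ≤ c.T) (hc : Nat.card M = 64) : c.Ix M := by
  intro a ha b hb a1 b1
  have h1 := card_mul_relIndex h
  rw [hc, c.card] at h1
  exact (mul_mem_iff_of_index_two (H := M.subgroupOf c.T) (show M.relIndex c.T = 2 by omega)
    (a := ⟨a, ha⟩) (b := ⟨b, hb⟩)).2 (iff_of_false a1 b1)

theorem Cx.Ix.norm {c : Cx G} {M : Subgroup G} (i : c.Ix M) (h : M ≤ c.T) : c.T ≤ normalizer (M : Set G) :=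
  fun a ha => mem_normalizer_of_conj_mem fun b hb => by
    by_cases h2 : a ∈ M
    · exact mul_mem (mul_mem h2 hb) (inv_mem h2)
    · exact i _ (mul_mem ha (h hb)) _ (inv_mem ha) (fun e => h2 ((mul_mem_cancel_right hb).1 e))
        fun e => h2 (inv_mem_iff.1 e)

theorem Cx.Ix.sq {c : Cx G} {M : Subgroup G} (i : c.Ix M) {t : G} (ht : t ∈ c.T) : t * t ∈ M := by
  by_cases h : t ∈ M
  exacts [mul_mem h h, i t ht t ht h h]

/-- A subgroup of order 32 of an elementary abelian subgroup of `T`. -/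
theorem Cx.exists_el (c : Cx G) {H : Subgroup G} (h : H ≤ c.T) (sq : ∀ a ∈ H, a * a = 1)
    (hc : 16 < Nat.card H) : ∃ E, E ≤ H ∧ c.El E := by
  obtain ⟨j, hj⟩ := IsPGroup.iff_card.1 (isPGroup_of_sq sq)
  have h5 : 5 ≤ j := by
    by_contra k
    have := Nat.pow_le_pow_right (show 0 < 2 by norm_num) (show j ≤ 4 by omega)
    omega
  obtain ⟨K, hK⟩ := Sylow.exists_subgroup_card_pow_prime (G := H) 2 (n := 5) (hj ▸ pow_dvd_pow 2 h5)
  exact ⟨K.map H.subtype, map_subtype_le K, (map_subtype_le K).trans h,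
    by rw [card_map_of_injective H.subtype_injective, hK]; rfl, fun a ha => sq a (map_subtype_le K ha)⟩

/-- Transfer for an arbitrary 2-element. -/
theorem tr (h : NoIdx G) {S M : Subgroup G} (hS : IsSylIn 2 S ⊤)
    (h1 : ∀ a ∈ S, ∀ b ∈ S, a ∉ M → b ∉ M → a * b ∈ M) {y : G} {k : ℕ} (hy : y ^ 2 ^ k = 1)
    (he : ∀ (g : G) (n : ℕ), Even n → g * y ^ n * g⁻¹ ∈ S → g * y ^ n * g⁻¹ ∈ M) :
    ∃ g : G, g * y * g⁻¹ ∈ M ∧ g * y * g⁻¹ ∈ S := by
  classical
  by_contra hc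
  let φ : S →* ℤˣ := MonoidHom.mk' (fun s => if (s : G) ∈ M then 1 else -1) fun a b => by
    by_cases ha : (a : G) ∈ M <;> by_cases hb : (b : G) ∈ M
    · simp [ha, hb, mul_mem ha hb]
    · simp [ha, hb, mul_mem_cancel_left ha]
    · simp [ha, hb, mul_mem_cancel_right hb]
    · simp [ha, hb, h1 a a.2 b b.2 ha hb]
  have := Fintype.ofFinite (Quotient (MulAction.orbitRel (zpowers y) (G ⧸ S)))
  have h2 : MonoidHom.transfer φ y = -1 := by
    have h3 : Odd S.index := Nat.not_even_iff_odd.1 fun e => hS.not_dvd_relIndex (by simpa using e.two_dvd)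
    rw [MonoidHom.transfer_eq_prod_quotient_orbitRel_zpowers_quot, ← h3.neg_one_pow,
      index_eq_sum_minimalPeriod S y, ← Finset.prod_pow_eq_pow_sum]
    refine Finset.prod_congr rfl fun q _ => ?_
    have h4 := QuotientGroup.out_conj_pow_minimalPeriod_mem S y q.out
    have h5 : Function.minimalPeriod (y • ·) q.out ∣ 2 ^ k :=
      MulAction.pow_smul_eq_iff_minimalPeriod_dvd.1 (by rw [hy, one_smul])
    refine (show ∀ n, (h4 : q.out.out⁻¹ * y ^ n * q.out.out ∈ S) → n ∣ 2 ^ k → φ ⟨_, h4⟩ = (-1) ^ n from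
      fun n h4 h5 => ?_) _ h4 h5
    change (if q.out.out⁻¹ * y ^ n * q.out.out ∈ M then 1 else -1) = _
    obtain ⟨j, -, rfl⟩ := (Nat.dvd_prime_pow Nat.prime_two).1 h5
    rcases j with _ | j
    · rw [pow_zero, pow_one] at h4 ⊢
      rw [pow_one, if_neg fun e => hc ⟨q.out.out⁻¹, by rwa [inv_inv], by rwa [inv_inv]⟩]
    · have h6 : Even (2 ^ (j + 1)) := by rw [pow_succ]; exact even_two.mul_left _
      rw [h6.neg_one_pow, if_pos (by simpa using he q.out.out⁻¹ _ h6 (by rwa [inv_inv]))]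
  refine h (MonoidHom.transfer φ).ker ?_
  rw [index_ker, MonoidHom.range_eq_top.2 fun u => (Int.units_eq_one_or u).elim (fun e => ⟨1, by rw [e, map_one]⟩)
    fun e => ⟨y, e ▸ h2⟩, card_top, Nat.card_eq_fintype_card, Fintype.card_units_int]

theorem Cx.low (c : Cx G) {M : Subgroup G} (h : M ≤ c.T) (hc : Nat.card M = 64)
    (e4 : ∀ a ∈ M, a * a * (a * a) = 1) : ∃ y ∈ c.T, y ∉ M ∧ y * y * (y * y) = 1 := by
  obtain ⟨y, ⟨hy, y1⟩, hm⟩ := exists_minimalFor_of_wellFoundedLT (fun y => y ∈ c.T ∧ y ∉ M) orderOf (by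
    by_contra k
    have := card_le_of_le (show c.T ≤ M from fun a ha => by_contra fun e => k ⟨a, ha, e⟩)
    rw [hc, c.card] at this
    omega)
  obtain ⟨k, hk⟩ := c.syl.isPGroup ⟨y, hy⟩
  replace hk : y ^ 2 ^ k = 1 := congrArg Subtype.val hk
  obtain ⟨j, -, hj⟩ := (Nat.dvd_prime_pow Nat.prime_two).1 (orderOf_dvd_of_pow_eq_one hk)
  rcases j with _ | j
  · rw [pow_zero, orderOf_eq_one_iff] at hj
    exact absurd (hj ▸ one_mem M) y1
  obtain ⟨g, h1, -⟩ := tr c.noIdx c.syl (c.ix_of_card h hc) hk fun g n ⟨l, hl⟩ hn => by_contra fun e => by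
    have h2 : orderOf (g * y ^ n * g⁻¹) ≤ 2 ^ j := orderOf_le_of_pow_eq_one (by positivity) (by
      rw [conj_pow, ← pow_mul, hl, show (l + l) * 2 ^ j = 2 ^ (j + 1) * l by ring, ← hj, pow_mul,
        pow_orderOf_eq_one, one_pow, mul_one, mul_inv_cancel])
    have h3 : 0 < 2 ^ j := by positivity
    have h4 := hm ⟨hn, e⟩ (by rw [hj, pow_succ]; omega)
    rw [hj, pow_succ] at h4
    omega
  refine ⟨y, hy, y1, ?_⟩
  have := e4 _ h1
  rw [← conj_mul', ← conj_mul'] at this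
  simpa using this

theorem Cx.four (c : Cx G) {M : Subgroup G} (i : c.Ix M) (h : ∀ t ∈ c.T, t * t = 1 → t ∈ M) {y : G}
    (hy : y * y * (y * y) = 1) : ∃ g : G, g * y * g⁻¹ ∈ M ∧ g * y * g⁻¹ ∈ c.T := by
  have h4 : y ^ 2 ^ 2 = 1 := by rw [← hy, pow_two 2, pow_mul, pow_two, pow_two]
  refine tr c.noIdx c.syl i h4 fun g n ⟨l, hl⟩ hn => h _ hn ?_
  rw [← conj_mul', ← pow_add, hl, show l + l + (l + l) = 2 ^ 2 * l by ring, pow_mul, h4, one_pow, mul_one,
    mul_inv_cancel]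

/-- If `T` is self-normalising, central involutions lie in every subgroup of index two. -/
theorem Cx.cen (c : Cx G) (hN : normalizer (c.T : Set G) ≤ c.T) {M : Subgroup G} (i : c.Ix M) {d : G}
    (hd : d ∈ c.T) (d2 : d * d = 1) (dc : ∀ t ∈ c.T, t * d = d * t) : d ∈ M := by
  obtain ⟨g, h1, -, h2⟩ := c.noIdx.transfer2 c.syl i d2 c.syl.isPGroup dc
  rwa [conj_eq_of_comm (dc g (hN (mem_normalizer_of_conj_mem h2)))] at h1

theorem Cx.cen' (c : Cx G) (hN : normalizer (c.T : Set G) ≤ c.T) {Y : Subgroup G} (hY : Y ≤ c.T)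
    (sq : ∀ t ∈ c.T, t * t ∈ Y) {d : G} (hd : d ∈ c.T) (d2 : d * d = 1)
    (dc : ∀ t ∈ c.T, t * d = d * t) : d ∈ Y := by
  by_contra k
  obtain ⟨M, ⟨m1, m2, m3⟩, hm⟩ := (Set.toFinite {M : Subgroup G | Y ≤ M ∧ M ≤ c.T ∧ d ∉ M}).exists_maximal
    ⟨Y, le_rfl, hY, k⟩
  have key : ∀ a ∈ c.T, a ∉ M → a * d ∈ M := fun a ha a1 => by
    have n : a ∈ normalizer (M : Set G) := mem_normalizer_of_conj_mem fun b hb => by
      rw [show a * b * a⁻¹ = a * b * (a * b) * b⁻¹ * (a * a)⁻¹ by group]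
      exact mul_mem (mul_mem (m1 (sq _ (mul_mem ha (m2 hb)))) (inv_mem hb)) (inv_mem (m1 (sq a ha)))
    refine ((mem_ext n (m1 (sq a ha))).1 (by_contra fun e => a1 ?_)).resolve_left m3
    exact hm ⟨m1.trans (le_ext M a), ext_le.2 ⟨m2, ha⟩, e⟩ (le_ext M a) (self_mem_ext M a)
  refine m3 (c.cen hN (fun a ha b hb a1 b1 => ?_) hd d2 dc)
  have := mul_mem (key a ha a1) (key b hb b1)
  rwa [dc b hb, mul_assoc, sq_cancel d2] at this

/-- The `Z*`-theorem for a central involution of `T`. -/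
theorem Cx.star (c : Cx G) {z : G} (hz : z ∈ c.T) (z1 : z ≠ 1) (z2 : z * z = 1)
    (zc : ∀ t ∈ c.T, t * z = z * t) : ∃ u ∈ c.T, u ≠ z ∧ IsConj u z := by
  have := c.simple
  have oz : orderOf z = 2 := orderOf_eq_prime (by rw [pow_two, z2]) z1
  obtain ⟨g, h1, h2⟩ : ∃ g, Commute z (g * z * g⁻¹) ∧ g * z * g⁻¹ ≠ z := by
    by_contra k
    have iso : IsIsolatedInvolution z := ⟨oz, fun g hg => by_contra fun e => k ⟨g, hg, e⟩⟩
    have h3 := iso.mem_center ((inferInstance : (oddCore G).Normal).eq_bot_or_eq_top.resolve_right fun e => by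
      have h4 := GT.odd_card_oddCore (G := G)
      rw [e, card_top] at h4
      exact absurd (h4.of_dvd_nat (oz ▸ orderOf_dvd_natCard z)) (by decide))
    rcases (inferInstance : (center G).Normal).eq_bot_or_eq_top with e | e
    · exact z1 (mem_bot.1 (e ▸ h3))
    · exact c.nc ⟨⟨fun a b => mem_center_iff.1 (e ▸ mem_top b : b ∈ center G) a⟩⟩
  obtain ⟨k, hk, h3⟩ := (c.syl.mono (K := centralizer {z}) (fun t ht => Rec.mem_cen.2 (zc t ht)) le_top).exists_cj_le
    (isPGroup_zpowers (x := g * z * g⁻¹) (k := 1) (by rw [pow_one, pow_two, ← conj_mul', z2]; group))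
    (zpowers_le.2 (Rec.mem_cen.2 h1.eq.symm))
  refine ⟨_, cj_le_iff.1 h3 _ (mem_zpowers _), fun e => h2 (conj_inj.1 (e.trans (Rec.mem_cen'.1 hk).symm)), ?_⟩
  exact (isConj_iff.2 ⟨k * g, (conj_conj k g z).symm⟩).symm

/-- Extremal conjugation onto a central element of `T`. -/
theorem Cx.ext' (c : Cx G) {z u : G} (zc : ∀ t ∈ c.T, t * z = z * t) (h : IsConj u z) :
    ∃ g : G, g * u * g⁻¹ = z ∧ ∀ t ∈ c.T, t * u = u * t → g * t * g⁻¹ ∈ c.T := by
  obtain ⟨g, hg⟩ := isConj_iff.1 h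
  obtain ⟨k, -, h1, h2⟩ := exists_extremal (K := ⊤) (C := c.T ⊓ centralizer {u})
    (c.syl.mono (fun t ht => ⟨mem_top t, Rec.mem_cen.2 (zc t ht)⟩) le_top) (mem_top g) hg
    (c.syl.isPGroup.to_le inf_le_left) le_top fun t ht => Rec.mem_cen.1 ht.2
  exact ⟨k, h1, fun t ht e => h2 t ⟨ht, Rec.mem_cen.2 e⟩⟩

/-- An element of order seven does not normalise a subgroup whose order is even and not `1` modulo seven,
nor centralise an involution. -/
theorem Cx.not_seven (c : Cx G) {N E : Subgroup G} (hE : IsPGroup 2 E) (hn : N ≤ normalizer (E : Set G))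
    (h7 : Nat.card E % 7 ≠ 1) : ¬ 7 ∣ Nat.card N := by
  intro h
  have : Fact (Nat.Prime 7) := ⟨by norm_num⟩
  obtain ⟨g, hg⟩ := exists_prime_orderOf_dvd_card' 7 h
  rw [← orderOf_coe] at hg
  have h1 := GT.card_modEq_card_inf_centralizer (p := 7) (L := E) (Q := zpowers (g : G))
    (IsPGroup.of_card (n := 1) (by rw [Nat.card_zpowers, hg, pow_one])) (zpowers_le.2 (hn g.2))
  obtain ⟨⟨a, ha⟩, a1⟩ := ne_bot_iff_exists_ne_one.1 (show E ⊓ centralizer (zpowers (g : G) : Set G) ≠ ⊥ from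
    fun e => h7 (by rw [e, card_bot] at h1; exact h1))
  obtain ⟨e, e1, e2, e3⟩ := exists_pow_two hE ha.1 fun k => a1 (Subtype.ext k)
  have h2 : Commute e g := (comm_zpowers (mem_centralizer_iff.1 ha.2 _ (mem_zpowers _)) e1).symm
  have h3 : orderOf e = 2 := orderOf_eq_prime (by rw [pow_two, e3]) e2
  refine c.s2 (e * g) ?_
  rw [h2.orderOf_mul_eq_mul_orderOf_of_coprime (by rw [h3, hg]; norm_num), h3, hg]

end Cfsg.Agent.C128
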