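import Mathlib
import Cfsg.Agent.C128.Defs
import Cfsg.Agent.Ch.Burnside
import Cfsg.Agent.GT.HallTools
import Cfsg.Agent.DerG.Defs

/-! An invariant subgroup of index two (PLAN: CHyp). See `stubs/Cfsg/Agent/C128/PLAN.md`. -/

set_option autoImplicit false
set_option linter.unusedSectionVars false

namespace Cfsg.Agent.C128

open Cfsg.Agent.Inv.Fz Cfsg.Agent.NE Subgroup

theorem hyp_parity {p a b : ℕ} (hp : p = 3 ∨ p = 5) (ha : Odd a) (h : 2 ^ a ≡ 2 ^ b [MOD p]) :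
    Odd b := by
  by_contra hb
  rw [Nat.not_odd_iff_even] at hb
  obtain ⟨i, rfl⟩ := ha
  obtain ⟨j, rfl⟩ := hb
  rw [← two_mul] at h
  rcases hp with rfl | rfl
  · have h4 : ∀ n : ℕ, 2 ^ (2 * n) ≡ 1 [MOD 3] := fun n => by
      rw [pow_mul]
      simpa using (show 2 ^ 2 ≡ 1 [MOD 3] by decide).pow n
    rw [pow_succ] at h
    exact absurd ((((h4 i).mul_right 2).symm.trans h).trans (h4 j)) (by decide)
  · have h4 : ∀ n : ℕ, (2 ^ (2 * n)) ^ 2 ≡ 1 [MOD 5] := fun n => by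
      rw [← pow_mul, show 2 * n * 2 = 4 * n by ring, pow_mul]
      simpa using (show 2 ^ 4 ≡ 1 [MOD 5] by decide).pow n
    have h2 := h.pow 2
    rw [pow_succ 2 (2 * i), mul_pow] at h2
    exact absurd ((((h4 i).mul_right (2 ^ 2)).symm.trans h2).trans (h4 j)) (by decide)

section core

variable {Γ W : Type*} [Group Γ] [Finite Γ] [Group W] [Finite W] [MulDistribMulAction Γ W]

theorem hyp_mem {O : Subgroup Γ} {w : W} : w ∈ FixedPoints.subgroup O W ↔ ∀ g ∈ O, g • w = w :=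
  ⟨fun h g hg => h ⟨g, hg⟩, fun h g => h g g.2⟩

theorem hyp_odd {k : ℕ} (hk : Odd k) (hW : Nat.card W = 2 ^ k) (O : Subgroup Γ)
    (pr : ∀ p : ℕ, p.Prime → p ∣ Nat.card O → p = 3 ∨ p = 5) :
    ∃ j, Odd j ∧ Nat.card (FixedPoints.subgroup O W) = 2 ^ j := by
  induction hn : Nat.card O using Nat.strong_induction_on generalizing O with
  | _ n ih =>
    rcases eq_or_ne O ⊥ with rfl | hO
    · refine ⟨k, hk, ?_⟩
      have e : FixedPoints.subgroup (⊥ : Subgroup Γ) W = ⊤ :=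
        eq_top_iff.2 fun w _ => hyp_mem.2 fun g hg => by rw [mem_bot.1 hg, one_smul]
      rw [e, card_top, hW]
    have : Nontrivial O := (nontrivial_iff_ne_bot O).2 hO
    have : Group.IsSolvable O := Ch.burnside_isSolvable_of_primes (p := 3) Nat.prime_five pr
    obtain ⟨M, hM, hp⟩ := GT.HT.exists_normal_index_prime O
    have hc : Nat.card (M.map O.subtype) = Nat.card M := card_map_of_injective O.subtype_injective
    have hlt : Nat.card (M.map O.subtype) < n := by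
      rw [hc, ← hn, ← M.card_mul_index]
      exact lt_mul_of_one_lt_right Nat.card_pos hp.one_lt
    obtain ⟨i, hi, ei⟩ := ih _ hlt (M.map O.subtype)
      (fun p hp hd => pr p hp (hd.trans (card_dvd_of_le (map_subtype_le M)))) rfl
    obtain ⟨j, -, ej⟩ := (Nat.dvd_prime_pow Nat.prime_two).1
      (hW ▸ (FixedPoints.subgroup O W).card_subgroup_dvd_card)
    refine ⟨j, hyp_parity (pr _ hp M.index_dvd_card) hi ?_, ej⟩
    have hle : (FixedPoints.subgroup O W : Set W) ⊆ FixedPoints.subgroup (M.map O.subtype) W :=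
      fun w hw => hyp_mem.2 fun g hg => hyp_mem.1 hw g (map_subtype_le M hg)
    have h1 := DerG.relIndex_dvd (K := O) (D := M.map O.subtype)
      (S := (FixedPoints.subgroup (M.map O.subtype) W : Set W) \ FixedPoints.subgroup O W)
      (Set.toFinite _) (fun g hg w hw => ⟨hyp_mem.2 ?_, fun h => hw.2 (hyp_mem.2 fun a ha => ?_)⟩)
      fun g hg w hw e => ?_
    · rw [relIndex, subgroupOf, comap_map_eq_self_of_injective O.subtype_injective] at h1
      have h2 := Set.ncard_sdiff_add_ncard_of_subset hle (Set.toFinite _)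
      rw [← Nat.card_coe_set_eq (FixedPoints.subgroup O W : Set W), ← Nat.card_coe_set_eq
        (FixedPoints.subgroup (M.map O.subtype) W : Set W), SetLike.coe_sort_coe,
        SetLike.coe_sort_coe, ei, ej] at h2
      rw [← h2]
      simpa using (Nat.modEq_zero_iff_dvd.2 h1).add_right (2 ^ j)
    · rintro _ ⟨a, ha, rfl⟩
      have := hyp_mem.1 hw.1 _ (mem_map_of_mem O.subtype (hM.conj_mem' a ha ⟨g, hg⟩))
      change (g⁻¹ * a * g) • w = w at this
      rwa [mul_smul, mul_smul, inv_smul_eq_iff] at this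
    · have h3 := hyp_mem.1 h g⁻¹ (inv_mem hg)
      rw [inv_smul_smul] at h3
      rw [h3]
      exact hyp_mem.1 h a ha
    · by_contra hg1
      have hM1 : M ≤ (MulAction.stabilizer Γ w).subgroupOf O := fun a ha =>
        hyp_mem.1 hw.1 _ (mem_map_of_mem O.subtype ha)
      rcases (Nat.dvd_prime hp).1 (index_dvd_of_le hM1) with h4 | h4
      · exact hw.2 fun a => (index_eq_one.1 h4).ge (mem_top a)
      · have h5 := relIndex_mul_index hM1
        rw [h4, mul_eq_right₀ hp.ne_zero, relIndex_eq_one] at h5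
        exact hg1 (mem_map_of_mem O.subtype (h5 (show (⟨g, hg⟩ : O) ∈ _ from e)))

theorem hyp_fix {k : ℕ} (hk : Odd k) (hW : Nat.card W = 2 ^ k) (S : Sylow 2 Γ) (hS : IsCyclic S)
    (pr : ∀ p : ℕ, p.Prime → p ∣ Nat.card Γ → p = 2 ∨ p = 3 ∨ p = 5) :
    ∃ w : W, w ≠ 1 ∧ ∀ g : Γ, g • w = w := by
  have hO : ∃ O : Subgroup Γ, O.Normal ∧ ¬ 2 ∣ Nat.card O ∧ ∀ g : Γ, ∃ o ∈ O, ∃ s ∈ S, o * s = g := by
    by_cases h2 : 2 ∣ Nat.card Γ
    · have hm := (Nat.minFac_eq_two_iff _).2 h2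
      have hc := IsCyclic.isComplement' hm hS
      refine ⟨_, inferInstance, hc.index_eq_card ▸ S.not_dvd_index, fun g => ?_⟩
      obtain ⟨⟨o, s⟩, e⟩ := hc.2 g
      exact ⟨o, o.2, s, s.2, e⟩
    · exact ⟨⊤, inferInstance, by rwa [card_top], fun g => ⟨g, mem_top g, 1, one_mem _, mul_one g⟩⟩
  obtain ⟨O, hN, h2, hd⟩ := hO
  obtain ⟨j, hj, ej⟩ := hyp_odd hk hW O fun p hp h =>
    (pr p hp (h.trans O.card_subgroup_dvd_card)).resolve_left fun e => h2 (e ▸ h)
  let _ : MulAction S (FixedPoints.subgroup O W) :=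
    { smul := fun s w => ⟨(s : Γ) • (w : W), hyp_mem.2 fun a ha => by
        have := hyp_mem.1 w.2 _ (hN.conj_mem' a ha s)
        rwa [mul_smul, mul_smul, inv_smul_eq_iff] at this⟩
      one_smul := fun w => Subtype.ext (one_smul Γ _)
      mul_smul := fun s t w => Subtype.ext (mul_smul (s : Γ) t (w : W)) }
  obtain ⟨w, hw, h1⟩ := S.2.exists_fixed_point_of_prime_dvd_card_of_fixed_point
    (FixedPoints.subgroup O W) (ej ▸ dvd_pow_self 2 hj.pos.ne') (a := 1)
    fun s => Subtype.ext (smul_one (s : Γ))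
  refine ⟨w, fun e => h1 (Subtype.ext e.symm), fun g => ?_⟩
  obtain ⟨o, ho, s, hs, rfl⟩ := hd g
  rw [mul_smul, show s • (w : W) = w from congrArg Subtype.val (hw ⟨s, hs⟩), hyp_mem.1 w.2 o ho]

theorem hyp_fix' {k : ℕ} (hk : Odd k) (hW : Nat.card W = 2 ^ k) (S : Sylow 2 Γ) {y : Γ} (hy : y ∈ S)
    (cyc : ∀ s ∈ S, ∃ n : ℕ, ∀ w : W, s • w = y ^ n • w)
    (pr : ∀ p : ℕ, p.Prime → p ∣ Nat.card Γ → p = 2 ∨ p = 3 ∨ p = 5) :
    ∃ w : W, w ≠ 1 ∧ ∀ g : Γ, g • w = w := by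
  set f := MulDistribMulAction.toMulAut Γ W with hf
  have hs := f.rangeRestrict_surjective
  obtain ⟨w, h1, hw⟩ := hyp_fix hk hW (S.mapSurjective hs) ⟨⟨⟨_, mem_map_of_mem _ hy⟩, by
    rintro ⟨_, s, hs, rfl⟩
    obtain ⟨n, hn⟩ := cyc s hs
    refine ⟨n, Subtype.ext (Subtype.ext ?_)⟩
    change (f y) ^ (n : ℤ) = f s
    rw [zpow_natCast, ← map_pow]
    exact MulEquiv.ext fun w => (hn w).symm⟩⟩
    fun p hp hd => pr p hp (hd.trans (card_dvd_of_surjective _ hs))
  exact ⟨w, h1, fun g => hw (f.rangeRestrict g)⟩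

end core

variable {G : Type*} [Group G] [Finite G]

/-- Conjugation by the inverse of an element of the normaliser. -/
def hypC (E : Subgroup G) {g : G} (hg : g ∈ normalizer (E : Set G)) : E →* E where
  toFun a := ⟨g⁻¹ * a * g, (mem_normalizer_iff''.1 hg a).1 a.2⟩
  map_one' := Subtype.ext (by simp)
  map_mul' a b := Subtype.ext (by simp [mul_assoc])

theorem exists_hyp {N E L P : Subgroup G} (hL : L ≤ E) (nE : N ≤ normalizer (E : Set G))
    (nL : N ≤ normalizer (L : Set G)) (sq : ∀ a ∈ E, a * a ∈ L) {k : ℕ} (hk : Odd k)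
    (card : Nat.card E = 2 ^ k * Nat.card L) (syl : IsSylIn 2 P N) {y : G} (hy : y ∈ P)
    (cyc : ∀ s ∈ P, ∃ n : ℕ, ∀ a ∈ E, s * a * s⁻¹ * (y ^ n * a * (y ^ n)⁻¹)⁻¹ ∈ L)
    (pr : ∀ p : ℕ, p.Prime → p ∣ Nat.card N → p = 2 ∨ p = 3 ∨ p = 5) :
    ∃ E' : Subgroup G, L ≤ E' ∧ E' ≤ E ∧ N ≤ normalizer (E' : Set G) ∧ Nat.card E = 2 * Nat.card E' := by
  have hn : (L.subgroupOf E).Normal := ⟨fun l hl a => by
    have := mul_mem (mul_mem (sq _ (a * l).2) (inv_mem (mem_subgroupOf.1 hl))) (sq _ (a⁻¹).2)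
    rw [mem_subgroupOf]
    convert this using 1
    simp only [coe_mul, InvMemClass.coe_inv]
    group⟩
  have q2 : ∀ q : E ⧸ L.subgroupOf E, q * q = 1 := fun q => QuotientGroup.induction_on q fun a =>
    (QuotientGroup.eq_one_iff (a * a)).2 (sq _ a.2)
  let _ : CommGroup (E ⧸ L.subgroupOf E) :=
    { (inferInstance : Group (E ⧸ L.subgroupOf E)) with
      mul_comm := fun a b => by
        rw [← inv_eq_of_mul_eq_one_right (q2 (a * b)), mul_inv_rev,
          inv_eq_of_mul_eq_one_right (q2 a), inv_eq_of_mul_eq_one_right (q2 b)] }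
  have hq : Nat.card (E ⧸ L.subgroupOf E) = 2 ^ k := by
    have h1 := card_eq_card_quotient_mul_card_subgroup (L.subgroupOf E)
    rw [Nat.card_congr (subgroupOfEquivOfLe hL).toEquiv, card] at h1
    exact (Nat.eq_of_mul_eq_mul_right Nat.card_pos h1).symm
  have : NeZero ((Monoid.exponent (E ⧸ L.subgroupOf E) : ℕ) : ℂ) :=
    ⟨Nat.cast_ne_zero.2 Monoid.exponent_ne_zero_of_finite⟩
  have hW := (CommGroup.card_monoidHom_of_hasEnoughRootsOfUnity (E ⧸ L.subgroupOf E) ℂ).trans hq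
  have : Finite ((E ⧸ L.subgroupOf E) →* ℂˣ) := Nat.finite_of_card_ne_zero (by rw [hW]; positivity)
  let f : N → (E ⧸ L.subgroupOf E) →* (E ⧸ L.subgroupOf E) := fun n =>
    QuotientGroup.map _ _ (hypC E (nE n.2)) fun a ha => (mem_normalizer_iff''.1 (nL n.2) a).1 ha
  let _ : MulDistribMulAction N ((E ⧸ L.subgroupOf E) →* ℂˣ) :=
    { smul := fun n χ => χ.comp (f n)
      one_smul := fun χ => MonoidHom.ext fun q => QuotientGroup.induction_on q fun a =>
        congrArg (fun e : E => χ (e : E ⧸ L.subgroupOf E)) (Subtype.ext (by simp [hypC]))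
      mul_smul := fun m n χ => MonoidHom.ext fun q => QuotientGroup.induction_on q fun a =>
        congrArg (fun e : E => χ (e : E ⧸ L.subgroupOf E)) (Subtype.ext (by simp [hypC, mul_assoc]))
      smul_mul := fun _ _ _ => rfl
      smul_one := fun _ => rfl }
  obtain ⟨χ, h1, hχ⟩ := hyp_fix' (Γ := N) hk hW syl.toSylow (y := ⟨y, syl.le hy⟩⁻¹)
    (inv_mem (show (⟨y, syl.le hy⟩ : N) ∈ P.subgroupOf N from hy)) (fun s hs => by
      obtain ⟨n, hn⟩ := cyc _ (inv_mem (show (s : G) ∈ P from hs))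
      refine ⟨n, fun χ => MonoidHom.ext fun q => QuotientGroup.induction_on q fun a => ?_⟩
      refine congrArg χ (QuotientGroup.eq_iff_div_mem.2 ?_)
      rw [mem_subgroupOf]
      convert hn a a.2 using 1
      simp [hypC, div_eq_mul_inv]) pr
  set ψ : E →* ℂˣ := χ.comp (QuotientGroup.mk' _) with hψ
  refine ⟨ψ.ker.map E.subtype, fun l hl => ⟨⟨l, hL hl⟩, ?_, rfl⟩, map_subtype_le _, fun n hn =>
    inv_mem_iff.1 (mem_normalizer_of_conj_mem ?_), ?_⟩
  · change χ ((⟨l, hL hl⟩ : E) : E ⧸ L.subgroupOf E) = 1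
    rw [(QuotientGroup.eq_one_iff _).2 (show (⟨l, hL hl⟩ : E) ∈ L.subgroupOf E from hl), map_one]
  · rintro _ ⟨a, ha, rfl⟩
    refine ⟨hypC E (nE hn) a, ?_, by simp [hypC]⟩
    exact (DFunLike.congr_fun (hχ ⟨n, hn⟩) (a : E ⧸ L.subgroupOf E)).trans ha
  · rw [card_map_of_injective E.subtype_injective, ← ψ.ker.card_mul_index, index_ker, mul_comm]
    congr 1
    have h3 : ∀ u : ψ.range, u ≠ 1 → (u : ℂˣ) = -1 := by
      rintro ⟨_, a, rfl⟩ hu
      have h4 : ψ a * ψ a = 1 := by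
        change χ a * χ a = 1
        rw [← map_mul, q2, map_one]
      have h5 : ((ψ a : ℂˣ) : ℂ) * (ψ a : ℂˣ) = 1 := by rw [← Units.val_mul, h4, Units.val_one]
      rcases mul_self_eq_one_iff.1 h5 with e | e
      · exact absurd (Subtype.ext (Units.ext e)) hu
      · exact Units.ext e
    rw [Nat.card_eq_two_iff' 1]
    obtain ⟨q, hq1⟩ : ∃ q, χ q ≠ 1 := by
      by_contra h
      push Not at h
      exact h1 (MonoidHom.ext h)
    obtain ⟨a, rfl⟩ := QuotientGroup.mk_surjective q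
    have h6 : (⟨ψ a, a, rfl⟩ : ψ.range) ≠ 1 := fun e => hq1 (congrArg Subtype.val e)
    exact ⟨_, h6, fun u hu => Subtype.ext ((h3 u hu).trans (h3 _ h6).symm)⟩

end Cfsg.Agent.C128
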