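import Mathlib
import Cfsg.Agent.C128.CBas
import Cfsg.Agent.C128.CHyp

/-! A normal elementary abelian subgroup of order 32 (PLAN: C1). See `stubs/Cfsg/Agent/C128/PLAN.md`. -/

set_option autoImplicit false
set_option linter.unusedSectionVars false

namespace Cfsg.Agent.C128

open Cfsg.Agent.Inv.Fz Cfsg.Agent.NE Subgroup

variable {G : Type*} [Group G] [Finite G]

theorem C1_two {A B : Subgroup G} (h : A ≤ B) (hc : Nat.card B ≤ 2 * Nat.card A) {a b : G} (ha : a ∈ B)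
    (hb : b ∈ B) (h1 : a ∉ A) (h2 : b ∉ A) : a * b ∈ A := by
  have e := card_mul_relIndex h
  have p : 0 < Nat.card A := Nat.card_pos
  have n0 : A.relIndex B ≠ 0 := index_ne_zero_of_finite
  have n1 : A.relIndex B ≠ 1 := fun e => h1 (relIndex_eq_one.1 e ha)
  have n2 : A.relIndex B ≤ 2 := Nat.le_of_mul_le_mul_left (by rw [e, mul_comm]; exact hc) p
  exact (mul_mem_iff_of_index_two (H := A.subgroupOf B) (by change A.relIndex B = 2; omega)
    (a := ⟨a, ha⟩) (b := ⟨b, hb⟩)).2 (iff_of_false h1 h2)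

theorem C1_x4 (c : Cx G) : c.x * c.x * (c.x * c.x) ≠ 1 := fun h => by
  have := orderOf_dvd_of_pow_eq_one (x := c.x) (n := 4) (by rw [← h]; simp only [pow_succ, pow_zero]; group)
  rw [c.ox] at this
  omega

/-- The subgroup of index two above a normal `E`. -/
theorem C1_mid {c : Cx G} {E : Subgroup G} (e : c.El E) (hn : c.T ≤ normalizer (E : Set G)) :
    ∃ M, E ≤ M ∧ M ≤ c.T ∧ Nat.card M = 64 ∧ c.x ∉ M ∧ (∀ u ∈ M, u * u * (u * u) = 1) ∧
      ∀ t ∈ c.T, t ∉ M → t * t ∉ E := by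
  have q0 : c.x * c.x ∉ E := fun h => C1_x4 c (e.sq _ h)
  have qT := mul_mem c.xT c.xT
  have q2 : c.x * c.x * (c.x * c.x) ∈ E := by
    have : (E.subgroupOf c.T).Normal := ⟨fun a ha g => (conj_mem_norm (K := E) (hn g.2)).2 ha⟩
    have h1 : c.x ^ E.relIndex c.T ∈ E := pow_index_mem (H := E.subgroupOf c.T) ⟨c.x, c.xT⟩
    have h2 := card_mul_relIndex e.le
    rw [e.card, c.card] at h2
    rw [show E.relIndex c.T = 4 by omega] at h1
    convert h1 using 1
    simp only [pow_succ, pow_zero]; group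
  have cM := card_ext (hn qT) q2 q0
  have lM : ext E (c.x * c.x) ≤ c.T := ext_le.2 ⟨e.le, qT⟩
  have two : ∀ u ∈ ext E (c.x * c.x), ∀ v ∈ ext E (c.x * c.x), (u ∈ E ↔ v ∈ E) → u * v ∈ E :=
    fun u hu v hv h => by
      by_cases h1 : u ∈ E
      exacts [mul_mem h1 (h.1 h1), C1_two (le_ext _ _) cM.le hu hv h1 fun h2 => h1 (h.2 h2)]
  have e4 : ∀ u ∈ ext E (c.x * c.x), u * u * (u * u) = 1 := fun u hu => e.sq _ (two u hu u hu Iff.rfl)
  have x0 : c.x ∉ ext E (c.x * c.x) := fun h => C1_x4 c (e4 _ h)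
  rw [e.card] at cM
  have i := c.ix_of_card lM cM
  refine ⟨_, le_ext _ _, lM, cM, x0, e4, fun t ht h1 h2 => q0 ?_⟩
  have h3 := i _ c.xT t ht x0 h1
  have h4 := mul_mem (two _ h3 _ ((conj_mem_norm (i.norm lM (inv_mem ht))).2 h3)
    (conj_mem_norm (hn (inv_mem ht))).symm) (inv_mem h2)
  rwa [show c.x * t * (t⁻¹ * (c.x * t) * t⁻¹⁻¹) * (t * t)⁻¹ = c.x * c.x by group] at h4

theorem Cx.El.not_normal {c : Cx G} {E : Subgroup G} (e : c.El E) : ¬ c.T ≤ normalizer (E : Set G) := by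
  intro hn
  obtain ⟨M, EM, MT, cM, x0, e4, sqE⟩ := C1_mid e hn
  have i := c.ix_of_card MT cM
  obtain ⟨y, yT, y0, y4⟩ := c.low MT cM e4
  obtain ⟨w, hw⟩ : ∃ w, w = y * y := ⟨_, rfl⟩
  have wT : w ∈ c.T := hw ▸ mul_mem yT yT
  have w0 : w ∉ E := hw ▸ sqE y yT y0
  have wM : w ∈ M := hw ▸ i.sq yT
  have ww : w * w = 1 := hw ▸ y4
  have mM : ∀ u ∈ M, u ∈ E ∨ w * u ∈ E := fun u hu => (em _).imp_right fun h =>
    C1_two EM (by rw [cM, e.card]) wM hu w0 h
  have mM' : ∀ u ∈ M, ∃ a ∈ E, u = a ∨ u = a * w := fun u hu => by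
    rcases mM u hu with h | h
    · exact ⟨u, h, Or.inl rfl⟩
    · exact ⟨_, (conj_mem_norm (hn wT)).2 h, Or.inr (by rw [inv_mul_cancel_right, sq_cancel ww])⟩
  have y3 : y⁻¹ = y ^ 3 := inv_eq_of_mul_eq_one_left (by rw [← y4]; simp only [pow_succ, pow_zero]; group)
  have gen : ∀ t ∈ c.T, ∃ a ∈ E, ∃ n : ℕ, t = a * y ^ n := fun t ht => by
    by_cases h : t ∈ M
    · obtain ⟨a, ha, rfl | rfl⟩ := mM' t h
      exacts [⟨t, ha, 0, by rw [pow_zero, mul_one]⟩, ⟨a, ha, 2, by rw [hw, pow_two]⟩]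
    · obtain ⟨a, ha, h1 | h1⟩ := mM' _ (i t ht y yT h y0)
      · exact ⟨a, ha, 3, by rw [← y3, ← h1, mul_inv_cancel_right]⟩
      · exact ⟨a, ha, 1, by rw [hw, ← mul_assoc, mul_left_inj] at h1; rw [h1, pow_one]⟩
  have small : Nat.card (E ⊓ centralizer {w} : Subgroup G) < 16 := by
    by_contra h16
    obtain ⟨η, ηT, η2, a, ha, ex⟩ : ∃ η ∈ c.T, η * η = w ∧ ∃ a ∈ E, c.x = a * η := by
      obtain ⟨a, ha, h1 | h1⟩ := mM' _ (i _ c.xT y yT x0 y0)
      · exact ⟨y⁻¹, inv_mem yT, by rw [← mul_inv_rev, ← hw, inv_of_sq ww], a, ha, by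
          rw [← h1, mul_inv_cancel_right]⟩
      · exact ⟨y, yT, hw.symm, a, ha, by rwa [hw, ← mul_assoc, mul_left_inj] at h1⟩
    have ηw : η * w * η⁻¹ = w := by rw [← η2]; group
    have a' := (conj_mem_norm (hn ηT)).2 ha
    have k : η * a * η⁻¹ ∈ centralizer {w} ↔ a ∈ centralizer {w} := by
      rw [mem_centralizer_singleton_iff, mem_centralizer_singleton_iff]
      exact ⟨fun h => comm_of_conj (g := η) (by rwa [ηw]), fun h => ηw ▸ conj_comm η h⟩
    have s : a * (η * a * η⁻¹) ∈ E ⊓ centralizer {w} := by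
      by_cases h1 : a ∈ centralizer {w}
      · exact mem_inf.2 ⟨mul_mem ha a', mul_mem h1 (k.2 h1)⟩
      · exact C1_two inf_le_left (by rw [e.card]; omega) ha a' (fun h => h1 (mem_inf.1 h).2)
          fun h => h1 (k.1 (mem_inf.1 h).2)
    have s1 := e.sq _ (mem_inf.1 s).1
    have s2 := mem_centralizer_singleton_iff.1 (mem_inf.1 s).2
    refine C1_x4 c ?_
    rw [show c.x * c.x = a * (η * a * η⁻¹) * w by rw [ex, ← η2]; group]
    generalize a * (η * a * η⁻¹) = r at s1 s2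
    rw [(show Commute r w from s2).symm.mul_mul_mul_comm, s1, ww, mul_one]
  have uniq : ∀ F, c.El F → F = E := fun F f => by
    have FM : F ≤ M := fun t ht => by
      by_contra h
      exact sqE t (f.le ht) h (f.sq t ht ▸ one_mem _)
    by_cases h : F ≤ E
    · exact eq_of_le_of_card_ge h (by rw [e.card, f.card])
    obtain ⟨d, hd, d0⟩ := SetLike.not_le_iff_exists.1 h
    have h1 := (mM d (FM hd)).resolve_left d0
    have h2 : E ⊓ F ≤ E ⊓ centralizer {w} := fun u hu => mem_inf.2 ⟨(mem_inf.1 hu).1, by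
      have c1 : Commute u (w * d) := comm_of_sq e.sq (mem_inf.1 hu).1 h1
      have c2 : Commute u d := comm_of_sq f.sq (mem_inf.1 hu).2 hd
      simpa using mem_centralizer_singleton_iff.2 (c1.mul_right c2.inv_right).eq⟩
    have h3 := card_le_of_le h2
    have h4 := card_mul_relIndex (inf_le_right : E ⊓ F ≤ F)
    have h5 := card_mul_relIndex EM
    have h6 : E.relIndex F ≤ E.relIndex M := relIndex_le_of_le_right FM index_ne_zero_of_finite
    rw [inf_relIndex_right, f.card] at h4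
    rw [e.card, cM] at h5
    have h7 := Nat.mul_le_mul_left (Nat.card (E ⊓ F : Subgroup G)) h6
    rw [show E.relIndex M = 2 by omega] at h7
    omega
  have pE := isPGroup_of_sq e.sq
  obtain ⟨E', -, le, nE, cE⟩ := exists_hyp (N := normalizer (E : Set G)) (E := E) (L := ⊥) (P := c.T) bot_le
    le_rfl (fun g _ => mem_normalizer_of_conj_mem fun u hu => by rw [mem_bot.1 hu]; simp)
    (fun a ha => mem_bot.2 (e.sq a ha)) (k := 5) (by decide) (by rw [e.card, card_bot]; norm_num)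
    (c.syl.mono hn le_top) yT (fun s hs => by
      obtain ⟨a, ha, n, rfl⟩ := gen s hs
      refine ⟨n, fun u hu => mem_bot.2 (mul_inv_eq_one.2 ?_)⟩
      rw [← conj_conj]
      exact conj_eq_of_comm (comm_of_sq e.sq ha ((conj_mem_norm (hn (pow_mem yT n))).2 hu)))
    (fun p hp hd => by
      rcases c.s3 p hp (hd.trans (card_subgroup_dvd_card _)) with h | h | h | h
      exacts [Or.inl h, Or.inr (Or.inl h), Or.inr (Or.inr h),
        (c.not_seven pE le_rfl (by rw [e.card]; decide) (h ▸ hd)).elim])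
  have w2 : w * w ∈ E' := ww ▸ one_mem _
  have c1 := card_ext (nE (hn wT)) w2 fun h => w0 (le h)
  have l1 : ext E' w ≤ M := ext_le.2 ⟨le.trans EM, wM⟩
  have n1 : y ∈ normalizer (ext E' w : Set G) := cj_eq_iff.1 (by
    rw [cj_ext, cj_eq_iff.2 (nE (hn yT)), show y * w * y⁻¹ = w by rw [hw]; group])
  have y2 : y * y ∈ ext E' w := hw ▸ self_mem_ext _ _
  have c2 := card_ext n1 y2 fun h => y0 (l1 h)
  rw [e.card] at cE
  obtain ⟨d, hd, d0⟩ := SetLike.not_le_iff_exists.1 fun h : E ≤ E' => by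
    have := card_le_of_le h
    rw [e.card] at this
    omega
  obtain ⟨g, h1, -, h2⟩ := c.noIdx.transfer2 c.syl
    (c.ix_of_card (ext_le.2 ⟨l1.trans MT, yT⟩) (by omega)) (e.sq d hd) pE fun u hu => comm_of_sq e.sq hu hd
  have hg : g ∈ normalizer (E : Set G) := cj_eq_iff.1 (uniq _ ⟨cj_le_iff.2 h2, by rw [card_cj, e.card],
    fun a ha => by
      have := e.sq _ (mem_cj.1 ha)
      rwa [show g⁻¹ * a * g * (g⁻¹ * a * g) = g⁻¹ * (a * a) * g⁻¹⁻¹ by group, conj_eq_one_iff] at this⟩)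
  have h3 := (conj_mem_norm hg).2 hd
  refine d0 ((conj_mem_norm (nE hg)).1 ?_)
  rcases (mem_ext n1 y2).1 h1 with h | h
  · exact ((mem_ext (nE (hn wT)) w2).1 h).resolve_right fun h => w0 ((mul_mem_cancel_right h3).1 (le h))
  · exact (y0 ((mul_mem_cancel_right (EM h3)).1 (l1 h))).elim

end Cfsg.Agent.C128
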