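import Mathlib
import Cfsg.Agent.C128.CBas

/-! The configuration `B` (PLAN: CB). See `stubs/Cfsg/Agent/C128/PLAN.md`. -/

set_option autoImplicit false
set_option linter.unusedSectionVars false

namespace Cfsg.Agent.C128

open Cfsg.Agent.Inv.Fz Cfsg.Agent.NE Subgroup
open scoped commutatorElement

variable {G : Type*} [Group G] [Finite G]

variable {c : Cx G} {A : Subgroup G} {z : G}

theorem Cx.B.ix (b : c.B A z) : c.Ix A := c.ix_of_card b.le b.card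

theorem Cx.B.cb_e4 (b : c.B A z) {a : G} (ha : a ∈ A) : a * a * (a * a) = 1 := by
  rcases b.sq a ha with h | h <;> rw [h]
  · exact one_mul 1
  · exact b.z2

theorem Cx.cb_x4 (c : Cx G) : c.x * c.x * (c.x * c.x) ≠ 1 := fun h => by
  have : orderOf c.x ∣ 4 := orderOf_dvd_of_pow_eq_one (by
    rw [← h, pow_succ, pow_succ, pow_two, mul_assoc (c.x * c.x)])
  rw [c.ox] at this
  omega

theorem Cx.B.x_not (b : c.B A z) : c.x ∉ A := fun h => c.cb_x4 (b.cb_e4 h)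

theorem Cx.B.x4 (b : c.B A z) : c.x * c.x * (c.x * c.x) = z :=
  (b.sq _ (b.ix.sq c.xT)).resolve_left c.cb_x4

theorem Cx.B.zA (b : c.B A z) : z ∈ A := b.x4 ▸ mul_mem (b.ix.sq c.xT) (b.ix.sq c.xT)

theorem Cx.B.cb_cj (b : c.B A z) {y u : G} (hy : y ∈ c.T) (hu : u ∈ A) : y * u * y⁻¹ ∈ A :=
  (conj_mem_norm (b.ix.norm b.le hy)).2 hu

theorem Cx.B.zc (b : c.B A z) : ∀ t ∈ c.T, t * z = z * t := fun t ht => by
  rcases b.sq _ (b.cb_cj ht (b.ix.sq c.xT)) with h | h <;> rw [← conj_mul', b.x4] at h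
  · exact absurd (by simpa using h) b.z1
  · exact comm_of_conj_eq h

theorem Cx.B.cb_mul (b : c.B A z) {g h : G} (hg : g = 1 ∨ g = z) (hh : h = 1 ∨ h = z) : g * h = 1 ∨ g * h = z := by
  rcases hg with rfl | rfl <;> rcases hh with rfl | rfl <;> simp [b.z2]

theorem Cx.B.cb_k (b : c.B A z) {u v : G} (hu : u ∈ A) (hv : v ∈ A) : ⁅u, v⁆ = 1 ∨ ⁅u, v⁆ = z := by
  have e : ⁅u, v⁆ = u * v * (u * v) * (v⁻¹ * u⁻¹ * v * (v⁻¹ * u⁻¹ * v)) * (v⁻¹ * v⁻¹) := by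
    rw [commutatorElement_def]; group
  rw [e]
  exact b.cb_mul (b.cb_mul (b.sq _ (mul_mem hu hv)) (b.sq _ (mul_mem (mul_mem (inv_mem hv) (inv_mem hu)) hv)))
    (b.sq _ (inv_mem hv))

theorem Cx.B.cb_kc (b : c.B A z) {u v t : G} (hu : u ∈ A) (hv : v ∈ A) (ht : t ∈ c.T) :
    t * ⁅u, v⁆ = ⁅u, v⁆ * t := by
  rcases b.cb_k hu hv with h | h <;> rw [h]
  · simp
  · exact b.zc t ht

theorem Cx.B.cb_kk (b : c.B A z) {u v : G} (hu : u ∈ A) (hv : v ∈ A) : ⁅u, v⁆ * ⁅u, v⁆ = 1 := by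
  rcases b.cb_k hu hv with h | h <;> rw [h]
  · simp
  · exact b.z2

theorem Cx.B.cb_symm (b : c.B A z) {u v : G} (hu : u ∈ A) (hv : v ∈ A) : ⁅u, v⁆ = ⁅v, u⁆ := by
  rw [← commutatorElement_inv u v, inv_of_sq (b.cb_kk hu hv)]

theorem Cx.B.cb_left (b : c.B A z) {u u' v : G} (hu : u ∈ A) (hu' : u' ∈ A) (hv : v ∈ A) :
    ⁅u * u', v⁆ = ⁅u', v⁆ * ⁅u, v⁆ := by
  calc ⁅u * u', v⁆ = u * ⁅u', v⁆ * u⁻¹ * ⁅u, v⁆ := by simp only [commutatorElement_def]; group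
    _ = _ := by rw [conj_eq_of_comm (b.cb_kc hu' hv (b.le hu))]

theorem Cx.B.cb_right (b : c.B A z) {u v v' : G} (hu : u ∈ A) (hv : v ∈ A) (hv' : v' ∈ A) :
    ⁅u, v * v'⁆ = ⁅u, v'⁆ * ⁅u, v⁆ := by
  rw [b.cb_symm hu (mul_mem hv hv'), b.cb_left hv hv' hu, b.cb_symm hv hu, b.cb_symm hv' hu]

theorem Cx.B.cb_invl (b : c.B A z) {u v : G} (hu : u ∈ A) (hv : v ∈ A) : ⁅u⁻¹, v⁆ = ⁅u, v⁆ := by
  have := b.cb_left hu (inv_mem hu) hv
  rw [mul_inv_cancel, commutatorElement_one_left] at this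
  rw [eq_inv_of_mul_eq_one_left this.symm, inv_of_sq (b.cb_kk hu hv)]

theorem Cx.B.cb_invr (b : c.B A z) {u v : G} (hu : u ∈ A) (hv : v ∈ A) : ⁅u, v⁻¹⁆ = ⁅u, v⁆ := by
  rw [b.cb_symm hu (inv_mem hv), b.cb_invl hv hu, b.cb_symm hv hu]

theorem Cx.B.cb_conj (b : c.B A z) {y u v : G} (hy : y ∈ c.T) (hu : u ∈ A) (hv : v ∈ A) :
    ⁅y * u * y⁻¹, y * v * y⁻¹⁆ = ⁅u, v⁆ := by
  rw [← conjugate_commutatorElement, conj_eq_of_comm (b.cb_kc hu hv hy)]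

theorem Cx.B.cb_conjA (b : c.B A z) {a u v : G} (ha : a ∈ A) (hu : u ∈ A) (hv : v ∈ A) :
    ⁅u, a * v * a⁻¹⁆ = ⁅u, v⁆ := by
  rw [b.cb_right hu (mul_mem ha hv) (inv_mem ha), b.cb_right hu ha hv, b.cb_invr hu ha,
    b.cb_kc hu hv (b.le (show ⁅u, a⁆ ∈ A by
      rw [commutatorElement_def]
      exact mul_mem (mul_mem (mul_mem hu ha) (inv_mem hu)) (inv_mem ha))) |>.symm, ← mul_assoc,
    b.cb_kk hu ha, one_mul]

/-- The form `(u, v) ↦ ⁅u, v ^ y⁆` is symmetric. -/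
theorem Cx.B.cb_adj (b : c.B A z) {y u v : G} (hy : y ∈ c.T) (hu : u ∈ A) (hv : v ∈ A) :
    ⁅v, y * u * y⁻¹⁆ = ⁅u, y * v * y⁻¹⁆ := by
  rw [← b.cb_conj hy hv (b.cb_cj hy hu), conj_conj, b.cb_conjA (b.ix.sq hy) (b.cb_cj hy hv) hu,
    b.cb_symm (b.cb_cj hy hv) hu]

theorem Cx.B.comm (b : c.B A z) {u v : G} (hu : u ∈ A) (hv : v ∈ A) : u * v = v * u ∨ u * v = v * u * z := by
  have e : u * v = ⁅u, v⁆ * (v * u) := by rw [commutatorElement_def]; group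
  rcases b.cb_k hu hv with h | h <;> rw [h] at e
  · exact Or.inl (by rw [e, one_mul])
  · exact Or.inr (by rw [e, b.zc _ (b.le (mul_mem hv hu))])

theorem Cx.B.low (b : c.B A z) : ∃ y ∈ c.T, y ∉ A ∧ y * y * (y * y) = 1 :=
  c.low b.le b.card fun _ ha => b.cb_e4 ha

theorem Cx.B.cb_four (b : c.B A z) {y a : G} (hy : y ∈ c.T) (y4 : y * y * (y * y) = 1) (ha : a ∈ A) :
    a * y * (a * y) * (a * y * (a * y)) = ⁅a, y * a * y⁻¹⁆ := by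
  have ha' := b.cb_cj hy ha
  have hv := b.ix.sq hy
  have h1 : ⁅y * y, a * (y * a * y⁻¹)⁆ = 1 := by
    rw [b.cb_right hv ha ha', b.cb_adj hy ha hv, show y * (y * y) * y⁻¹ = y * y by group, b.cb_symm ha hv,
      b.cb_kk hv ha]
  have h2 := commutatorElement_eq_one_iff_mul_comm.1 h1
  have h3 : y * a * y⁻¹ * (y * a * y⁻¹) = a * a := by
    rw [← conj_mul']
    rcases b.sq a ha with h | h <;> rw [h]
    · simp
    · exact conj_eq_of_comm (b.zc y hy)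
  calc a * y * (a * y) * (a * y * (a * y))
      = a * (y * a * y⁻¹) * (y * y * (a * (y * a * y⁻¹))) * (y * y) := by group
    _ = a * (y * a * y⁻¹) * (a * (y * a * y⁻¹)) * (y * y * (y * y)) := by rw [h2]; group
    _ = a * ⁅y * a * y⁻¹, a⁆ * (a * (y * a * y⁻¹ * (y * a * y⁻¹))) := by
      rw [y4, commutatorElement_def]; group
    _ = ⁅y * a * y⁻¹, a⁆ * (a * a * (a * a)) := by rw [h3, b.cb_kc ha' ha (b.le ha)]; group
    _ = _ := by rw [b.cb_e4 ha, mul_one, b.cb_symm ha' ha]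

theorem Cx.B.cb_div (b : c.B A z) {y y' : G} (hy : y ∈ c.T) (hy' : y' ∈ c.T) (h : y ∉ A) (h' : y' ∉ A) :
    y * y'⁻¹ ∈ A := b.ix _ hy _ (inv_mem hy') h fun k => h' (inv_mem_iff.1 k)

theorem Cx.B.cb_p0 (b : c.B A z) : ∃ a ∈ A, ∀ y ∈ c.T, y ∉ A → ⁅a, y * a * y⁻¹⁆ = z := by
  obtain ⟨y1, h1, h2, h4⟩ := b.low
  have ha := b.cb_div c.xT h1 b.x_not h2
  refine ⟨_, ha, fun y hy hyA => ?_⟩
  have k := b.cb_four h1 h4 ha
  rw [inv_mul_cancel_right, b.x4] at k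
  rw [k, ← b.cb_conjA (b.cb_div hy h1 hyA h2) ha (b.cb_cj h1 ha), conj_conj, inv_mul_cancel_right]

theorem Cx.B.p0 (b : c.B A z) :
    ∃ a ∈ A, ∀ y ∈ c.T, y ∉ A → a * (y * a * y⁻¹) = y * a * y⁻¹ * a * z := by
  obtain ⟨a, ha, h⟩ := b.cb_p0
  refine ⟨a, ha, fun y hy hyA => ?_⟩
  rw [b.zc _ (b.le (mul_mem (b.cb_cj hy ha) ha)), ← h y hy hyA, commutatorElement_def]
  group

/-- The elements `u⁻¹ u ^ y` commute with each other. -/
theorem Cx.B.gam_comm (b : c.B A z) {y u v : G} (hy : y ∈ c.T) (hu : u ∈ A) (hv : v ∈ A) :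
    u⁻¹ * (y * u * y⁻¹) * (v⁻¹ * (y * v * y⁻¹)) = v⁻¹ * (y * v * y⁻¹) * (u⁻¹ * (y * u * y⁻¹)) := by
  have hu' := b.cb_cj hy hu
  have hv' := b.cb_cj hy hv
  refine commutatorElement_eq_one_iff_mul_comm.1 ?_
  rw [b.cb_left (inv_mem hu) hu' (mul_mem (inv_mem hv) hv'), b.cb_invl hu (mul_mem (inv_mem hv) hv'),
    b.cb_right hu' (inv_mem hv) hv', b.cb_right hu (inv_mem hv) hv', b.cb_invr hu' hv, b.cb_invr hu hv,
    b.cb_conj hy hu hv, b.cb_symm hu' hv, b.cb_adj hy hu hv, mul_assoc, ← mul_assoc ⁅u, y * v * y⁻¹⁆,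
    b.cb_kk hu hv', one_mul, b.cb_kk hu hv]

/-- `u ↦ u⁻¹ u ^ y` is multiplicative modulo `z`. -/
theorem Cx.B.gam_mul (b : c.B A z) {y u v : G} (hy : y ∈ c.T) (hu : u ∈ A) (hv : v ∈ A) :
    (u * v)⁻¹ * (y * (u * v) * y⁻¹) = u⁻¹ * (y * u * y⁻¹) * (v⁻¹ * (y * v * y⁻¹)) ∨
      (u * v)⁻¹ * (y * (u * v) * y⁻¹) = u⁻¹ * (y * u * y⁻¹) * (v⁻¹ * (y * v * y⁻¹)) * z := by
  have e : (u * v)⁻¹ * (y * (u * v) * y⁻¹) = v⁻¹ * (u⁻¹ * (y * u * y⁻¹)) * (y * v * y⁻¹) := by group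
  rcases b.comm (inv_mem hv) (mul_mem (inv_mem hu) (b.cb_cj hy hu)) with h | h <;> rw [h] at e
  · exact Or.inl (by rw [e, mul_assoc])
  · refine Or.inr ?_
    rw [e, mul_assoc _ z, ← b.zc _ (b.le (b.cb_cj hy hv))]
    group

theorem Cx.B.cb_hom (b : c.B A z) {y u v : G} (hy : y ∈ c.T) (hu : u ∈ A) (hv : v ∈ A) :
    ⁅u * v, y * (u * v) * y⁻¹⁆ = ⁅v, y * v * y⁻¹⁆ * ⁅u, y * u * y⁻¹⁆ := by
  have hu' := b.cb_cj hy hu
  have hv' := b.cb_cj hy hv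
  rw [conj_mul', b.cb_left hu hv (mul_mem hu' hv'), b.cb_right hu hu' hv', b.cb_right hv hu' hv',
    b.cb_adj hy hu hv, mul_assoc, ← mul_assoc ⁅u, y * v * y⁻¹⁆, b.cb_kk hu hv', one_mul]

theorem Cx.B.cb_card (b : c.B A z) : Nat.card {g // g ∈ c.T ∧ g * g * (g * g) ≠ 1} ∣ 64 := by
  obtain ⟨y, h1, h2, h4⟩ := b.low
  obtain ⟨a, ha, h⟩ := b.cb_p0
  have h := h y h1 h2
  let K : Subgroup G :=
    { carrier := {u | u ∈ A ∧ ⁅u, y * u * y⁻¹⁆ = 1}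
      one_mem' := ⟨one_mem _, commutatorElement_one_left _⟩
      mul_mem' := fun hu hv => ⟨mul_mem hu.1 hv.1, by rw [b.cb_hom h1 hu.1 hv.1, hu.2, hv.2, one_mul]⟩
      inv_mem' := fun {u} hu => ⟨inv_mem hu.1, by
        have := b.cb_hom h1 hu.1 (inv_mem hu.1)
        rw [mul_inv_cancel, commutatorElement_one_left, hu.2, mul_one] at this
        exact this.symm⟩ }
  have hK : K ≤ A := fun _ hu => hu.1
  rw [← b.card]
  refine Dvd.dvd.trans (dvd_of_eq (Nat.card_congr (Equiv.ofBijective (β := {g // g ∈ c.T ∧ g * g * (g * g) ≠ 1})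
    (fun u : K => ⟨a * u * y, mul_mem (b.le (mul_mem ha (hK u.2))) h1, ?_⟩) ⟨?_, ?_⟩)).symm) (card_dvd_of_le hK)
  · rw [b.cb_four h1 h4 (mul_mem ha (hK u.2)), b.cb_hom h1 ha (hK u.2), u.2.2, one_mul, h]
    exact b.z1
  · intro u v e
    exact Subtype.ext (mul_left_cancel (mul_right_cancel (congrArg Subtype.val e)))
  · rintro ⟨g, hg, g4⟩
    have hA := b.cb_div hg h1 (fun k => g4 (b.cb_e4 k)) h2
    have k := b.cb_four h1 h4 hA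
    rw [inv_mul_cancel_right] at k
    have k' := (b.cb_k hA (b.cb_cj h1 hA)).resolve_left (k ▸ g4)
    refine ⟨⟨a⁻¹ * (g * y⁻¹), mul_mem (inv_mem ha) hA, ?_⟩, Subtype.ext (by simp)⟩
    rw [b.cb_hom h1 (inv_mem ha) hA, k', b.cb_invl ha (b.cb_cj h1 (inv_mem ha)),
      show y * a⁻¹ * y⁻¹ = (y * a * y⁻¹)⁻¹ by group, b.cb_invr ha (b.cb_cj h1 ha), h, b.z2]

theorem Cx.B.norm_le (b : c.B A z) : normalizer (c.T : Set G) ≤ c.T := by
  classical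
  refine (c.syl.eq_of_le ?_ le_top le_normalizer).le
  refine IsPGroup.iff_card.2 ⟨_, Nat.eq_prime_pow_of_unique_prime_dvd Nat.card_pos.ne' fun {p} hp hd => ?_⟩
  by_contra p2
  haveI := Fact.mk hp
  obtain ⟨⟨h, hN⟩, hh⟩ := exists_prime_orderOf_dvd_card' p hd
  rw [← orderOf_coe] at hh
  change orderOf h = p at hh
  have hp1 : h ^ p = 1 := hh ▸ pow_orderOf_eq_one h
  haveI := Fintype.ofFinite {g // g ∈ c.T ∧ g * g * (g * g) ≠ 1}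
  have inv : ∀ g : G, ((MulAut.conj h).toEquiv g ∈ c.T ∧ (MulAut.conj h).toEquiv g * (MulAut.conj h).toEquiv g *
      ((MulAut.conj h).toEquiv g * (MulAut.conj h).toEquiv g) ≠ 1) ↔ (g ∈ c.T ∧ g * g * (g * g) ≠ 1) := fun g => by
    change (h * g * h⁻¹ ∈ c.T ∧ h * g * h⁻¹ * (h * g * h⁻¹) * (h * g * h⁻¹ * (h * g * h⁻¹)) ≠ 1) ↔ _
    rw [conj_mem_norm hN, ← conj_mul', ← conj_mul']
    simp
  obtain ⟨⟨g, hg, g4⟩, e⟩ := Equiv.Perm.exists_fixed_point_of_prime (p := p) (n := 1)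
    (α := {g // g ∈ c.T ∧ g * g * (g * g) ≠ 1}) (fun k => p2 ((Nat.prime_dvd_prime_iff_eq hp Nat.prime_two).1
      (hp.dvd_of_dvd_pow (n := 6) (k.trans (by rw [← Nat.card_eq_fintype_card]; exact b.cb_card)))))
    (σ := Equiv.Perm.subtypePerm (MulAut.conj h).toEquiv inv) (by
      rw [pow_one, Equiv.Perm.subtypePerm_pow]
      ext g
      change ((MulAut.toPerm G (MulAut.conj h)) ^ p) g.1 = g.1
      rw [← map_pow, ← map_pow, hp1, map_one, map_one]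
      rfl)
  have e' : h * g = g * h := comm_of_conj_eq (congrArg Subtype.val e)
  have o8 : orderOf g = 2 ^ (2 + 1) := orderOf_eq_prime_pow (fun k => g4 (by
      rw [← k, show 2 ^ 2 = 4 from rfl, pow_succ, pow_succ, pow_two, mul_assoc (g * g)])) (by
    rw [← b.cb_e4 (b.ix.sq hg)]
    simp only [show 2 ^ (2 + 1) = 8 from rfl, pow_succ, pow_zero, one_mul, mul_assoc])
  obtain ⟨k, hk⟩ := c.s1 h g o8 e'
  exact p2 ((Nat.prime_dvd_prime_iff_eq hp Nat.prime_two).1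
    (hp.dvd_of_dvd_pow (hh ▸ orderOf_dvd_of_pow_eq_one hk)))

end Cfsg.Agent.C128
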