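import Mathlib
import Cfsg.Agent.C128.CB
import Cfsg.Agent.C128.CHyp

/-! A non-normal elementary abelian subgroup of order 32 (PLAN: C2). See `stubs/Cfsg/Agent/C128/PLAN.md`. -/

set_option autoImplicit false
set_option linter.unusedSectionVars false

namespace Cfsg.Agent.C128

open Cfsg.Agent.Inv.Fz Cfsg.Agent.NE Subgroup

variable {G : Type*} [Group G] [Finite G]

namespace C2

theorem idx2 {H K : Subgroup G} (h : H ≤ K) (hc : Nat.card K = 2 * Nat.card H) {a b : G} (ha : a ∈ K) (hb : b ∈ K)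
    (a' : a ∉ H) (b' : b ∉ H) : a * b ∈ H := by
  have e := card_mul_relIndex h
  rw [hc, mul_comm 2] at e
  have i : (H.subgroupOf K).index = 2 := Nat.eq_of_mul_eq_mul_left Nat.card_pos e
  exact (mul_mem_iff_of_index_two i (a := ⟨a, ha⟩) (b := ⟨b, hb⟩)).2 (iff_of_false a' b')

theorem el_cj {c : Cx G} {E : Subgroup G} (e : c.El E) {g : G} (h : cj g E ≤ c.T) : c.El (cj g E) :=
  ⟨h, (card_cj g E).trans e.card, fun a ha => by
    have : g * _ * g⁻¹ = g * 1 * g⁻¹ := congrArg (fun v => g * v * g⁻¹) (e.sq _ (mem_cj.1 ha))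
    rw [conj_mul'] at this
    simpa [mul_assoc] using this⟩

theorem ex_not {c : Cx G} {E F : Subgroup G} (e : c.El E) (f : c.El F) (h : E ≠ F) : ∃ u ∈ E, u ∉ F :=
  SetLike.not_le_iff_exists.1 fun k => h (eq_of_le_of_card_ge k (by rw [e.card, f.card]))

/-- The two elementary abelian subgroups of order 32 of `A`. -/
structure St (c : Cx G) (A E F : Subgroup G) (z : G) : Prop where
  b : c.B A z
  e : c.El E
  f : c.El F
  EA : E ≤ A
  FA : F ≤ A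
  ne : E ≠ F
  sqz : ∀ a ∈ A, a ∉ E → a ∉ F → a * a = z
  out : ∀ y ∈ c.T, y ∉ A → cj y E ≠ E

section

variable {c : Cx G} {A E F : Subgroup G} (e : c.El E) (f : c.El F) (EA : E ≤ A) (FA : F ≤ A) (hA : Nat.card A = 64)
include e f EA FA hA

theorem dec {u v a : G} (hu : u ∈ E) (u' : u ∉ F) (hv : v ∈ F) (v' : v ∉ E) (ha : a ∈ A) :
    ∃ ζ ∈ E ⊓ F, a = ζ ∨ (a ∉ F ∧ a = u * ζ) ∨ (a ∉ E ∧ a = v * ζ) ∨ a = u * v * ζ := by
  have iE := @idx2 G _ _ E A EA (by rw [hA, e.card])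
  have iF := @idx2 G _ _ F A FA (by rw [hA, f.card])
  have w := inv_mem (mul_mem (EA hu) (FA hv))
  by_cases h1 : a ∈ E <;> by_cases h2 : a ∈ F
  · exact ⟨a, mem_inf.2 ⟨h1, h2⟩, .inl rfl⟩
  · exact ⟨u * a, mem_inf.2 ⟨mul_mem hu h1, iF (EA hu) ha u' h2⟩, .inr (.inl ⟨h2, (sq_cancel (e.sq u hu) a).symm⟩)⟩
  · exact ⟨v * a, mem_inf.2 ⟨iE (FA hv) ha v' h1, mul_mem hv h2⟩,
      .inr (.inr (.inl ⟨h1, (sq_cancel (f.sq v hv) a).symm⟩))⟩
  · exact ⟨(u * v)⁻¹ * a, mem_inf.2 ⟨iE w ha (fun k => v' ((mul_mem_cancel_left hu).1 (inv_mem_iff.1 k))) h1,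
      iF w ha (fun k => u' ((mul_mem_cancel_right hv).1 (inv_mem_iff.1 k))) h2⟩,
      .inr (.inr (.inr (mul_inv_cancel_left ..).symm))⟩

theorem cen0 (ne : E ≠ F) {ζ a : G} (hζ : ζ ∈ E ⊓ F) (ha : a ∈ A) : a * ζ = ζ * a := by
  obtain ⟨v, hv, v'⟩ := ex_not f e ne.symm
  by_cases h : a ∈ E
  · exact comm_of_sq e.sq h hζ.1
  · have := comm_of_sq e.sq (idx2 EA (by rw [hA, e.card]) (FA hv) ha v' h) hζ.1
    rw [← mul_assoc, ← comm_of_sq f.sq hv hζ.2, mul_assoc, mul_assoc] at this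
    exact mul_left_cancel this

end

theorem exists_st {c : Cx G} {E : Subgroup G} (e : c.El E) (h : ¬ c.T ≤ normalizer (E : Set G)) :
    ∃ A F z, St c A E F z := by
  have lt := lt_inf_normalizer c.syl.isPGroup (lt_of_le_of_ne e.le fun k => by
    have := e.card; rw [k, c.card] at this; omega)
  generalize hA : c.T ⊓ normalizer (E : Set G) = A at lt
  have AT : A ≤ c.T := hA ▸ inf_le_left
  have out : ∀ y ∈ c.T, y ∉ A → cj y E ≠ E := fun y hy y' k => y' (hA ▸ mem_inf.2 ⟨hy, cj_eq_iff.1 k⟩)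
  have lt' : A < c.T := lt_of_le_of_ne AT fun k => h (k ▸ hA ▸ inf_le_right)
  have cA : Nat.card A = 64 := by
    have h1 := card_lt_of_lt lt
    have h2 := card_lt_of_lt lt'
    obtain ⟨m, h3⟩ := card_dvd_of_le AT
    obtain ⟨n, h4⟩ := card_dvd_of_le lt.le
    rw [e.card] at h1 h4
    rw [c.card] at h2 h3
    have : n = 2 ∨ n = 3 := by omega
    rw [h4] at h3 ⊢
    rcases this with rfl | rfl <;> omega
  have ix := c.ix_of_card AT cA
  obtain ⟨t, ht, t'⟩ := SetLike.exists_of_lt lt'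
  have FA : cj t E ≤ A := (cj_mono lt.le).trans (cj_eq_iff.2 (ix.norm AT ht)).le
  have f := el_cj e (FA.trans AT)
  have ne := (out t ht t').symm
  generalize cj t E = F at FA f ne
  obtain ⟨u, hu, u'⟩ := ex_not e f ne
  obtain ⟨v, hv, v'⟩ := ex_not f e ne.symm
  have w := mul_mem (lt.le hu) (FA hv)
  have sqz : ∀ a ∈ A, a ∉ E → a ∉ F → a * a = u * v * (u * v) := fun a ha h1 h2 => by
    obtain ⟨ζ, hζ, rfl | ⟨-, rfl⟩ | ⟨-, rfl⟩ | rfl⟩ := dec e f lt.le FA cA hu u' hv v' ha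
    · exact absurd hζ.1 h1
    · exact absurd (mul_mem hu hζ.1) h1
    · exact absurd (mul_mem hv hζ.2) h2
    · rw [mul_assoc (u * v), ← mul_assoc ζ, ← cen0 e f lt.le FA cA ne hζ w, mul_assoc (u * v) ζ, e.sq ζ hζ.1, mul_one]
  have sq : ∀ a ∈ A, a * a = 1 ∨ a * a = u * v * (u * v) := fun a ha => by
    by_cases h1 : a ∈ E
    · exact .inl (e.sq a h1)
    by_cases h2 : a ∈ F
    exacts [.inl (f.sq a h2), .inr (sqz a ha h1 h2)]
  have wE : u * v ∉ E := fun k => v' ((mul_mem_cancel_left hu).1 k)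
  refine ⟨A, F, _, ⟨AT, cA, fun k => ?_, e.sq _ (idx2 lt.le (by rw [cA, e.card]) w w wE wE), sq⟩, e, f, lt.le, FA, ne,
    sqz, out⟩
  have := orderOf_dvd_of_pow_eq_one (x := c.x) (n := 4) (by
    rw [show c.x ^ 4 = c.x * c.x * (c.x * c.x) by simp only [pow_succ, pow_zero, one_mul, mul_assoc]]
    exact (sq _ (ix.sq c.xT)).elim id fun e => e.trans k)
  rw [c.ox] at this
  omega

namespace St

variable {c : Cx G} {A E F : Subgroup G} {z : G} (s : St c A E F z)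
include s

theorem cen {ζ a : G} (hζ : ζ ∈ E ⊓ F) (ha : a ∈ A) : a * ζ = ζ * a := cen0 s.e s.f s.EA s.FA s.b.card s.ne hζ ha

theorem inv {a : G} (ha : a ∈ A) (h : a * a = 1) : a ∈ E ∨ a ∈ F := by
  by_contra k
  exact s.b.z1 ((s.sqz a ha (fun h => k (.inl h)) fun h => k (.inr h)).symm.trans h)

theorem sqw {u v : G} (hu : u ∈ E) (u' : u ∉ F) (hv : v ∈ F) (v' : v ∉ E) : u * v * (u * v) = z :=
  s.sqz _ (mul_mem (s.EA hu) (s.FA hv)) (fun k => v' ((mul_mem_cancel_left hu).1 k))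
    fun k => u' ((mul_mem_cancel_right hv).1 k)

theorem el_cases {H : Subgroup G} (h : c.El H) (hA : H ≤ A) : H = E ∨ H = F := by
  by_contra k
  obtain ⟨u, hu, u'⟩ := ex_not h s.f fun e => k (.inr e)
  obtain ⟨v, hv, v'⟩ := ex_not h s.e fun e => k (.inl e)
  exact s.b.z1 ((s.sqw ((s.inv (hA hu) (h.sq u hu)).resolve_right u') u'
    ((s.inv (hA hv) (h.sq v hv)).resolve_left v') v').symm.trans (h.sq _ (mul_mem hu hv)))

theorem nA : c.T ≤ normalizer (A : Set G) := s.b.ix.norm s.b.le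

theorem cj_le {g : G} (hg : g ∈ normalizer (A : Set G)) {H : Subgroup G} (h : H ≤ A) : cj g H ≤ A :=
  (cj_mono h).trans (cj_eq_iff.2 hg).le

theorem perm {g : G} (hg : g ∈ normalizer (A : Set G)) :
    (cj g E = E ∧ cj g F = F) ∨ (cj g E = F ∧ cj g F = E) := by
  have h1 := s.cj_le hg s.EA
  have h2 := s.cj_le hg s.FA
  rcases s.el_cases (el_cj s.e (h1.trans s.b.le)) h1 with k | k <;>
    rcases s.el_cases (el_cj s.f (h2.trans s.b.le)) h2 with k' | k'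
  exacts [absurd (cj_inj.1 (k.trans k'.symm)) s.ne, .inl ⟨k, k'⟩, .inr ⟨k, k'⟩, absurd (cj_inj.1 (k.trans k'.symm)) s.ne]

theorem sw {y : G} (hy : y ∈ c.T) (y' : y ∉ A) : cj y E = F ∧ cj y F = E :=
  (s.perm (s.nA hy)).resolve_left fun k => s.out y hy y' k.1

theorem nZ : normalizer (A : Set G) ≤ normalizer ((E ⊓ F : Subgroup G) : Set G) := fun g hg => cj_eq_iff.1 (by
  rw [cj_inf]
  rcases s.perm hg with ⟨k, k'⟩ | ⟨k, k'⟩ <;> rw [k, k']
  exact inf_comm ..)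

theorem fix {y a : G} (hy : y ∈ c.T) (y' : y ∉ A) (ha : a ∈ A) (h : a * a = 1) (k : y * a = a * y) : a ∈ E ⊓ F := by
  have e := conj_eq_of_comm k
  rcases s.inv ha h with h | h
  · exact mem_inf.2 ⟨h, (s.sw hy y').1 ▸ e ▸ conj_mem_cj.2 h⟩
  · exact mem_inf.2 ⟨(s.sw hy y').2 ▸ e ▸ conj_mem_cj.2 h, h⟩

theorem pair {y : G} (hy : y ∈ c.T) (y' : y ∉ A) : ∃ u ∈ E, u ∉ F ∧ y * u * y⁻¹ ∈ F ∧ y * u * y⁻¹ ∉ E := by
  obtain ⟨u, hu, u'⟩ := ex_not s.e s.f s.ne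
  exact ⟨u, hu, u', (s.sw hy y').1 ▸ conj_mem_cj.2 hu, fun k => u' (conj_mem_cj.1 ((s.sw hy y').2.ge k))⟩

theorem cardZ : Nat.card ↥(E ⊓ F) = 16 := by
  obtain ⟨u, hu, u'⟩ := ex_not s.e s.f s.ne
  obtain ⟨h1, -, h2⟩ := ext_elem (A := E ⊓ F) (fun a ha => s.e.sq a ha.1) (s.e.sq u hu)
    fun a ha => comm_of_sq s.e.sq hu ha.1
  have : ext (E ⊓ F) u = E := le_antisymm (ext_le.2 ⟨inf_le_left, hu⟩) fun a ha => (h1 a).2 <| (em (a ∈ F)).imp
    (fun k => mem_inf.2 ⟨ha, k⟩) fun k => mem_inf.2 ⟨mul_mem hu ha,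
      idx2 s.FA (by rw [s.b.card, s.f.card]) (s.EA hu) (s.EA ha) u' k⟩
  have := h2 fun k => u' k.2
  rw [‹ext (E ⊓ F) u = E›, s.e.card] at this
  omega

theorem zZ : z ∈ E ⊓ F := s.fix c.xT s.b.x_not s.b.zA s.b.z2 (s.b.zc _ c.xT)

theorem fixz {g : G} (hg : g ∈ normalizer (A : Set G)) : g * z * g⁻¹ = z := by
  have h := s.b.ix.sq c.xT
  rw [← s.b.x4, conj_mul', s.b.x4]
  refine (s.b.sq _ ((conj_mem_norm hg).2 h)).resolve_left fun k => s.b.z1 ?_
  rwa [← conj_mul', s.b.x4, conj_eq_one_iff] at k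

/-- All elementary abelian subgroups of order 32 lie in `A`. -/
theorem all {H : Subgroup G} (h : c.El H) : H ≤ A := by
  by_contra k
  obtain ⟨y, hy, y'⟩ := SetLike.not_le_iff_exists.1 k
  have y2 := h.sq y hy
  have yT := h.le hy
  obtain ⟨h1, -, h2⟩ := ext_elem (A := H ⊓ A) (fun a ha => h.sq a ha.1) y2 fun a ha => comm_of_sq h.sq hy ha.1
  have e : ext (H ⊓ A) y = H := le_antisymm (ext_le.2 ⟨inf_le_left, hy⟩) fun a ha => (h1 a).2 <| (em (a ∈ A)).imp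
    (fun k => mem_inf.2 ⟨ha, k⟩) fun k => mem_inf.2 ⟨mul_mem hy ha, s.b.ix _ yT _ (h.le ha) y' k⟩
  have h3 := h2 fun k => y' k.2
  rw [e, h.card] at h3
  have e' : H ⊓ A = E ⊓ F := eq_of_le_of_card_ge
    (fun a ha => s.fix yT y' ha.2 (h.sq a ha.1) (comm_of_sq h.sq hy ha.1)) (by rw [s.cardZ]; omega)
  have cy : ∀ ζ ∈ E ⊓ F, y * ζ = ζ * y := fun ζ hζ => comm_of_sq h.sq hy (e'.ge hζ).1
  obtain ⟨u, hu, u', hv, v'⟩ := s.pair yT y'
  have yv : y * (y * u * y⁻¹) * y⁻¹ = u := by rw [conj_conj, y2]; simp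
  generalize hv0 : y * u * y⁻¹ = v at hv v' yv
  have w2 := s.sqw hu u' hv v'
  have wi : v * u = (u * v)⁻¹ := by rw [mul_inv_rev, inv_of_sq (s.e.sq u hu), inv_of_sq (s.f.sq v hv)]
  have zY : z ∈ zpowers (u * v) := w2 ▸ mul_mem (mem_zpowers _) (mem_zpowers _)
  have wT := s.b.le (mul_mem (s.EA hu) (s.FA hv))
  have le : E ⊓ F ≤ zpowers (u * v) := fun d hd => by
    refine c.cen' s.b.norm_le (zpowers_le.2 wT) (fun t ht => ?_) (s.e.le hd.1) (s.e.sq d hd.1) fun t ht => ?_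
    · by_cases k : t ∈ A
      · rcases s.b.sq t k with k | k <;> rw [k]
        exacts [one_mem _, zY]
      have a := s.b.ix _ ht _ yT k y'
      have q : ∀ p ∈ A, ∀ ζ ∈ E ⊓ F, t * y = p * ζ → t * t = p * (y * p * y⁻¹) := fun p hp ζ hζ e => by
        have p' := (conj_mem_norm (s.nA yT)).2 hp
        calc t * t = t * y * (y * (t * y) * y⁻¹) := by rw [mul_assoc t, mul_assoc y, sq_cancel y2]; group
          _ = p * (ζ * (y * p * y⁻¹)) * ζ := by rw [e, conj_mul', conj_eq_of_comm (cy ζ hζ)]; group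
          _ = _ := by rw [← s.cen hζ p', mul_assoc, mul_assoc, s.e.sq ζ hζ.1, mul_one]
      obtain ⟨ζ, hζ, e | ⟨-, e⟩ | ⟨-, e⟩ | e⟩ := dec s.e s.f s.EA s.FA s.b.card hu u' hv v' a
      · rw [q 1 (one_mem _) ζ hζ (by rw [e, one_mul])]; simp
      · rw [q u (s.EA hu) ζ hζ e, hv0]; exact mem_zpowers _
      · rw [q v (s.FA hv) ζ hζ e, yv, wi]; exact inv_mem (mem_zpowers _)
      · rw [q _ (mul_mem (s.EA hu) (s.FA hv)) ζ hζ e, conj_mul', hv0, yv, wi, mul_inv_cancel]; exact one_mem _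
    · by_cases k : t ∈ A
      · exact s.cen hd k
      · have := s.cen hd (s.b.ix _ yT _ ht y' k)
        rw [← mul_assoc, ← cy d hd, mul_assoc, mul_assoc] at this
        exact mul_left_cancel this
  have h4 := card_dvd_of_le le
  have h5 := orderOf_dvd_of_pow_eq_one (x := u * v) (n := 4) (by
    rw [show (4 : ℕ) = 2 * 2 from rfl, pow_mul, pow_two, pow_two, w2, s.b.z2])
  rw [s.cardZ, Nat.card_zpowers] at h4
  exact absurd (h4.trans h5) (by decide)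

theorem mem_N {g : G} (h : ∀ a ∈ A, g * a * g⁻¹ ∈ c.T) : g ∈ normalizer (A : Set G) := by
  have k : ∀ {H}, c.El H → H ≤ A → ∀ a ∈ H, g * a * g⁻¹ ∈ A := fun e hH =>
    cj_le_iff.1 (s.all (el_cj e (cj_le_iff.2 fun a ha => h a (hH ha))))
  obtain ⟨v, hv, v'⟩ := ex_not s.f s.e s.ne.symm
  refine mem_normalizer_of_conj_mem fun a ha => ?_
  by_cases h1 : a ∈ E
  · exact k s.e s.EA a h1
  · have := k s.e s.EA _ (idx2 s.EA (by rw [s.b.card, s.e.card]) (s.FA hv) ha v' h1)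
    rw [conj_mul'] at this
    exact (mul_mem_cancel_left (k s.f s.FA v hv)).1 this

theorem exists_y : ∃ y ∈ c.T, y ∉ A ∧ (y * y = 1 ∨ y * y = z) := by
  by_contra k
  obtain ⟨y, hy, y', y4⟩ := s.b.low
  obtain ⟨g, hg, -⟩ := c.four s.b.ix (fun t ht t2 => by_contra fun t' => k ⟨t, ht, t', .inl t2⟩) y4
  have h1 := (s.b.sq _ hg).resolve_left fun e => k ⟨y, hy, y', .inl (by rwa [← conj_mul', conj_eq_one_iff] at e)⟩
  rw [← conj_mul'] at h1
  have hZ := s.fix hy y' (s.b.ix.sq hy) y4 (mul_assoc ..).symm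
  obtain ⟨h, e, hh⟩ := c.ext' s.b.zc (isConj_iff.2 ⟨g, h1⟩)
  exact k ⟨y, hy, y', .inr (conj_inj.1 (e.trans (s.fixz (s.mem_N fun a ha => hh a (s.b.le ha) (s.cen hZ ha))).symm))⟩

theorem false : False := by
  obtain ⟨y, hy, y', y2⟩ := s.exists_y
  have zZ := s.zZ
  have oz : orderOf z = 2 := orderOf_eq_prime (by rw [pow_two, s.b.z2]) s.b.z1
  obtain ⟨Y, zY, YZ, nY, cY⟩ := exists_hyp (N := normalizer (A : Set G)) (E := E ⊓ F) (L := zpowers z) (k := 3)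
    (zpowers_le.2 zZ) s.nZ (fun g hg => cj_eq_iff.1 (by rw [cj_zpowers, s.fixz hg]))
    (fun a ha => s.e.sq a ha.1 ▸ one_mem _) (by decide) (by rw [s.cardZ, Nat.card_zpowers, oz]; rfl)
    (c.syl.mono s.nA le_top) hy (fun t ht => by
      by_cases k : t ∈ A
      · exact ⟨0, fun a ha => by rw [conj_eq_of_comm (s.cen ha k)]; simp⟩
      · refine ⟨1, fun a ha => ?_⟩
        have := conj_eq_of_comm (s.cen ha (s.b.ix _ (inv_mem hy) _ ht (by rwa [inv_mem_iff]) k))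
        rw [show t * a * t⁻¹ = y * (y⁻¹ * t * a * (y⁻¹ * t)⁻¹) * y⁻¹ by group, this]; simp)
    fun p hp h => by
      have := c.not_seven (isPGroup_of_sq (A := E ⊓ F) fun a ha => s.e.sq a ha.1) s.nZ (by rw [s.cardZ]; decide)
      rcases c.s3 p hp (h.trans (card_subgroup_dvd_card _)) with e | e | e | rfl
      exacts [.inl e, .inr (.inl e), .inr (.inr e), absurd h this]
  replace zY := zY (mem_zpowers z)
  have nT := s.nA.trans nY
  have yy : y * y ∈ Y := by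
    rcases y2 with e | e <;> rw [e]
    exacts [one_mem _, zY]
  obtain ⟨u, hu, u', hv, v'⟩ := s.pair hy y'
  have yv : y * (y * u * y⁻¹) * y⁻¹ = u := by
    rw [conj_conj]; exact conj_eq_of_comm (s.cen (YZ yy) (s.EA hu)).symm
  generalize hv0 : y * u * y⁻¹ = v at hv v' yv
  have u2 := s.e.sq u hu
  have wi : v * u = (u * v)⁻¹ := by rw [mul_inv_rev, inv_of_sq u2, inv_of_sq (s.f.sq v hv)]
  have wA := mul_mem (s.EA hu) (s.FA hv)
  have wE : u * v ∉ E := fun k => v' ((mul_mem_cancel_left hu).1 k)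
  have n1 := nT (s.b.le wA)
  have q1 : u * v * (u * v) ∈ Y := (s.sqw hu u' hv v').symm ▸ zY
  have c1 := card_ext n1 q1 fun k => wE (YZ k).1
  have nn : ∀ t ∈ c.T, t * (u * v) * t⁻¹ = v * u → cj t (ext Y (u * v)) ≤ ext Y (u * v) := fun t ht e => by
    rw [cj_ext, cj_eq_iff.2 (nT ht), e, wi]
    exact ext_le.2 ⟨le_ext _ _, inv_mem (self_mem_ext _ _)⟩
  have n2 := cj_eq_iff.1 (cj_eq_of_le (nn u (s.e.le hu) (by rw [sq_cancel u2, inv_of_sq u2])))
  have q2 : u * u ∈ ext Y (u * v) := u2 ▸ one_mem _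
  have k1 : ∀ d ∈ E, d ∈ ext Y (u * v) → d ∈ Y := fun d hd k => ((mem_ext n1 q1).1 k).resolve_right fun k =>
    wE ((mul_mem_cancel_right hd).1 (YZ k).1)
  have c2 := card_ext n2 q2 fun k => u' (YZ (k1 u hu k)).2
  have n3 : y ∈ normalizer (ext (ext Y (u * v)) u : Set G) := cj_eq_iff.1 (cj_eq_of_le (by
    rw [cj_ext, hv0]
    exact ext_le.2 ⟨(nn y hy (by rw [conj_mul', hv0, yv])).trans (le_ext _ _),
      by have := mul_mem (self_mem_ext (ext Y (u * v)) u) (le_ext _ u (self_mem_ext Y (u * v)))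
         rwa [sq_cancel u2] at this⟩))
  have q3 : y * y ∈ ext (ext Y (u * v)) u := le_ext _ _ (le_ext _ _ yy)
  have l2 : ext (ext Y (u * v)) u ≤ A := ext_le.2 ⟨ext_le.2 ⟨YZ.trans (inf_le_left.trans s.EA), wA⟩, s.EA hu⟩
  have c3 := card_ext n3 q3 fun k => y' (l2 k)
  rw [s.cardZ] at cY
  obtain ⟨d, hd, d'⟩ := SetLike.not_le_iff_exists.1 fun k : E ⊓ F ≤ Y => by
    have := card_le_of_le k
    rw [s.cardZ] at this; omega
  obtain ⟨g, g1, -, g2⟩ := c.noIdx.transfer2 c.syl (c.ix_of_card (ext_le.2 ⟨l2.trans s.b.le, hy⟩) (by omega))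
    (s.e.sq d hd.1) (c.syl.isPGroup.to_le s.b.le) fun a ha => s.cen hd ha
  have gN := s.mem_N g2
  have hd' := (conj_mem_norm (s.nZ gN)).2 hd
  refine d' ((conj_mem_norm (nY gN)).1 ?_)
  rcases (mem_ext n2 q2).1 (((mem_ext n3 q3).1 g1).resolve_right fun k =>
    y' ((mul_mem_cancel_right (s.EA hd'.1)).1 (l2 k))) with k | k
  · exact k1 _ hd'.1 k
  · exact absurd ((mul_mem_cancel_right (mem_inf.1 hd').2).1
      (mem_inf.1 (YZ (k1 _ (mul_mem hu (mem_inf.1 hd').1) k))).2) u'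

end St

end C2

theorem Cx.El.normal {c : Cx G} {E : Subgroup G} (e : c.El E) : c.T ≤ normalizer (E : Set G) := by
  by_contra h
  obtain ⟨_, _, _, s⟩ := C2.exists_st e h
  exact s.false

end Cfsg.Agent.C128
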