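import Mathlib
import Cfsg.Agent.C128.CB

/-! A conjugate of `z` inside `A` (PLAN: C3 (out)). See `stubs/Cfsg/Agent/C128/PLAN.md`. -/

set_option autoImplicit false
set_option linter.unusedSectionVars false

namespace Cfsg.Agent.C128

open Cfsg.Agent.Inv.Fz Cfsg.Agent.NE Subgroup

variable {G : Type*} [Group G] [Finite G]

theorem C3a_card (A : Subgroup G) (y : G) (s : Finset G) (h : ∀ c ∈ A, c * y * c⁻¹ ∈ s) :
    Nat.card A ≤ s.card * Nat.card ↥(A ⊓ centralizer {y}) := by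
  rw [card_eq_card_quotient_mul_card_subgroup ((A ⊓ centralizer {y}).subgroupOf A),
    Nat.card_congr (subgroupOfEquivOfLe inf_le_left).toEquiv, ← Nat.card_eq_finsetCard]
  refine Nat.mul_le_mul_right _ (Nat.card_le_card_of_injective
    (fun q => ⟨q.out.1 * y * q.out.1⁻¹, h _ q.out.2⟩) fun p q e => ?_)
  rw [← p.out_eq', ← q.out_eq', QuotientGroup.eq, mem_subgroupOf, mem_inf, mem_centralizer_singleton_iff]
  refine ⟨(p.out⁻¹ * q.out).2, ?_⟩
  have e' : p.out.1 * y * p.out.1⁻¹ = q.out.1 * y * q.out.1⁻¹ := congrArg Subtype.val e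
  calc _ = p.out.1⁻¹ * (q.out.1 * y * q.out.1⁻¹) * q.out.1 := by simp [mul_assoc]
    _ = _ := by rw [← e']; simp [mul_assoc]

theorem Cx.B.exists_in {c : Cx G} {A : Subgroup G} {z : G} (b : c.B A z) (ne : ∀ E, ¬ c.El E) :
    ∃ u ∈ A, u ≠ z ∧ IsConj u z := by
  by_contra hn
  have hn : ∀ u ∈ A, IsConj u z → u = z := fun u hu k => by_contra fun e => hn ⟨u, hu, e, k⟩
  obtain ⟨y, yT, yz, yc⟩ := c.star (b.le b.zA) b.z1 b.z2 b.zc
  have yA : y ∉ A := fun k => yz (hn y k yc)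
  obtain ⟨g, gy, gT⟩ := c.ext' b.zc yc
  have y2 : y * y = 1 := by
    have := b.z2
    rwa [← gy, conj_mul, mul_inv_eq_iff_eq_mul, one_mul, mul_eq_left] at this
  have out : ∀ t, IsConj t z → t ≠ y → g * t * g⁻¹ ∉ A := fun t h1 h2 k =>
    h2 (conj_inj.1 ((hn _ k ((isConj_iff.2 ⟨g, rfl⟩ : IsConj t _).symm.trans h1)).trans gy.symm))
  have nA : ∀ u ∈ A, y * u * y⁻¹ ∈ A := fun u hu => (conj_mem_norm (b.ix.norm b.le yT)).2 hu
  have gA : ∀ u ∈ A, u⁻¹ * (y * u * y⁻¹) ∈ A := fun u hu => mul_mem (inv_mem hu) (nA u hu)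
  have zc : ∀ u ∈ A, u * z = z * u := fun u hu => b.zc u (b.le hu)
  have gy' : ∀ u, u⁻¹ * (y * u * y⁻¹) * y = u⁻¹ * y * u⁻¹⁻¹ := fun u => by group
  have gi : ∀ u, y * (u⁻¹ * (y * u * y⁻¹)) * y⁻¹ = (u⁻¹ * (y * u * y⁻¹))⁻¹ := fun u => by
    calc _ = y * u⁻¹ * (y * (u * (y * y)⁻¹)) := by group
      _ = _ := by rw [y2, ← inv_of_sq y2]; simp [mul_assoc, inv_of_sq y2]
  have hU : Nat.card ↥(A ⊓ centralizer {y}) ≤ 8 := by
    have sq : ∀ u ∈ A ⊓ centralizer {y}, u * u = 1 := fun u hu => (b.sq u hu.1).resolve_right fun e =>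
      out z (IsConj.refl z) yz.symm (by
        rw [← e, ← conj_mul]
        exact b.ix.sq (gT u (b.le hu.1) (mem_centralizer_singleton_iff.1 hu.2)))
    obtain ⟨-, h2, h3⟩ := ext_elem sq y2 fun u hu => (mem_centralizer_singleton_iff.1 hu.2).symm
    by_contra k
    obtain ⟨E, -, hE⟩ := c.exists_el (ext_le.2 ⟨inf_le_left.trans b.le, yT⟩) h2 (by rw [h3 fun k => yA k.1]; omega)
    exact ne E hE
  obtain ⟨a, ha, pa⟩ := b.p0
  obtain ⟨w, hw⟩ : ∃ w, w = a⁻¹ * (y * a * y⁻¹) := ⟨_, rfl⟩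
  have wA : w ∈ A := hw ▸ gA a ha
  have w2 : w * w = z := by
    have e : y * a * y⁻¹ * (y * a * y⁻¹) = a * a := by
      rw [conj_mul]
      rcases b.sq a ha with e | e <;> rw [e]
      · simp
      · rw [b.zc y yT, mul_inv_cancel_right]
    calc w * w = a⁻¹ * a⁻¹ * (a * (y * a * y⁻¹)) * a⁻¹ * (y * a * y⁻¹) := by rw [hw]; group
      _ = a⁻¹ * a⁻¹ * (y * a * y⁻¹) * (a * z * a⁻¹) * (y * a * y⁻¹) := by rw [pa y yT yA]; group
      _ = a⁻¹ * a⁻¹ * (y * a * y⁻¹ * (y * a * y⁻¹)) * z := by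
        rw [zc a ha, mul_inv_cancel_right, mul_assoc _ z, ← zc _ (nA a ha)]; group
      _ = z := by rw [e]; group
  have wy : w * y * w⁻¹ = z * y := by
    have e : y * w * y⁻¹ = w⁻¹ := hw ▸ gi a
    rw [← e, ← w2, inv_of_sq y2, mul_assoc, mul_assoc y w, sq_cancel y2, mul_assoc]
  obtain ⟨u, hu, u2, u1, uz⟩ : ∃ u ∈ A, u⁻¹ * (y * u * y⁻¹) * (u⁻¹ * (y * u * y⁻¹)) = 1 ∧
      u⁻¹ * (y * u * y⁻¹) ≠ 1 ∧ u⁻¹ * (y * u * y⁻¹) ≠ z := by
    by_contra k
    have k : ∀ u ∈ A, u⁻¹ * (y * u * y⁻¹) * (u⁻¹ * (y * u * y⁻¹)) = 1 →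
        u⁻¹ * (y * u * y⁻¹) = 1 ∨ u⁻¹ * (y * u * y⁻¹) = z := fun u hu e =>
      by_contra fun k' => k ⟨u, hu, e, fun e => k' (.inl e), fun e => k' (.inr e)⟩
    classical
    have := C3a_card A y {y, z * y, w⁻¹ * y, w⁻¹ * z * y} fun u hu => by
      have hu' := inv_mem hu
      rw [← inv_inv u, ← gy']
      generalize u⁻¹ = v at hu'
      simp only [Finset.mem_insert, Finset.mem_singleton, mul_left_inj, mul_eq_right]
      rcases b.sq _ (gA v hu') with e | e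
      · exact (k v hu' e).imp_right .inl
      have cm := b.gam_comm yT ha hu'
      have m := b.gam_mul yT ha hu'
      have k1 := k _ (mul_mem ha hu')
      have vA := gA v hu'
      rw [← hw] at cm m
      generalize v⁻¹ * (y * v * y⁻¹) = t at *
      have e1 : w * t * (w * t) = 1 := by
        rw [mul_assoc, ← mul_assoc t, ← cm, mul_assoc, e, ← mul_assoc, w2, b.z2]
      have zi := inv_of_sq b.z2
      refine .inr (.inr ?_)
      rcases m with m | m <;> rw [m] at k1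
      · exact (k1 e1).imp eq_inv_of_mul_eq_one_right eq_inv_mul_of_mul_eq
      · refine (k1 (by rw [mul_assoc, ← mul_assoc z, ← zc _ (mul_mem wA vA), mul_assoc _ z, b.z2, mul_one, e1])).symm.imp
          (fun e => eq_inv_of_mul_eq_one_right (mul_eq_right.1 e)) fun e => eq_inv_mul_of_mul_eq ?_
        rw [eq_inv_of_mul_eq_one_left e, zi]
    have h4 : ({y, z * y, w⁻¹ * y, w⁻¹ * z * y} : Finset G).card ≤ 4 := Finset.card_le_four
    have := this.trans (Nat.mul_le_mul h4 hU)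
    rw [b.card] at this
    omega
  have cm := b.gam_comm yT ha hu
  have vA := gA u hu
  have vy := gi u
  have vc : IsConj (u⁻¹ * (y * u * y⁻¹) * y) z := (isConj_iff.2 ⟨_, (gy' u).symm⟩ : IsConj y _).symm.trans yc
  rw [← hw] at cm
  generalize u⁻¹ * (y * u * y⁻¹) = v at *
  rw [inv_of_sq u2, mul_inv_eq_iff_eq_mul] at vy
  have zy := b.zc y yT
  have o1 := out (z * y) ((isConj_iff.2 ⟨_, wy⟩ : IsConj y _).symm.trans yc) fun e => b.z1 (mul_eq_right.1 e)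
  have o2 := out (v * y) vc fun e => u1 (mul_eq_right.1 e)
  refine out (v * z * y) ((isConj_iff.2 ⟨w, ?_⟩ : IsConj (v * y) _).symm.trans vc)
    (fun e => uz ((eq_inv_of_mul_eq_one_left (mul_eq_right.1 e)).trans (inv_of_sq b.z2))) ?_
  · rw [← mul_assoc, cm, mul_assoc v, mul_assoc v, wy, mul_assoc]
  · have := mul_mem (b.ix _ (gT _ (mul_mem (b.le vA) yT) (by rw [mul_assoc, ← mul_assoc y, vy, mul_assoc])) _
      (gT _ (mul_mem (b.le b.zA) yT) (by rw [mul_assoc, ← mul_assoc y, zy, mul_assoc])) o2 o1) b.zA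
    nth_rw 2 [← gy] at this
    rwa [conj_mul, conj_mul, mul_assoc _ (z * y), mul_assoc z, y2, mul_one, mul_assoc v, zy, ← mul_assoc v] at this

end Cfsg.Agent.C128
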