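import Mathlib
import Cfsg.Agent.C128.CB

/-! No conjugate of `z` inside `A` (PLAN: C3 (in)). See `stubs/Cfsg/Agent/C128/PLAN.md`. -/

set_option autoImplicit false
set_option linter.unusedSectionVars false

namespace Cfsg.Agent.C128

open Cfsg.Agent.Inv.Fz Cfsg.Agent.NE Subgroup

variable {G : Type*} [Group G] [Finite G]

namespace C3b

theorem two_le {H K : Subgroup G} (h : ∀ x ∈ H, ∀ y ∈ H, x ∉ K → y ∉ K → x * y ∈ K) :
    Nat.card H ≤ 2 * Nat.card (H ⊓ K : Subgroup G) := by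
  by_cases hle : H ≤ K
  · rw [inf_eq_left.2 hle]
    omega
  obtain ⟨x, hx, hx'⟩ := SetLike.not_le_iff_exists.1 hle
  have h1 : (H : Set G) ⊆ (H ⊓ K : Subgroup G) ∪ (fun g => x⁻¹ * g) '' (H ⊓ K : Subgroup G) := fun y hy => by
    by_cases hy' : y ∈ K
    · exact .inl ⟨hy, hy'⟩
    · exact .inr ⟨x * y, ⟨mul_mem hx hy, h x hx y hy hx' hy'⟩, inv_mul_cancel_left x y⟩
  have h2 := (Set.ncard_le_ncard h1 (Set.toFinite _)).trans (Set.ncard_union_le _ _)
  have h3 := Set.ncard_image_le (s := ((H ⊓ K : Subgroup G) : Set G)) (f := fun g => x⁻¹ * g)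
  rw [← SetLike.coe_sort_coe, Nat.card_coe_set_eq, ← SetLike.coe_sort_coe, Nat.card_coe_set_eq]
  omega

variable {c : Cx G} {A : Subgroup G} {z : G}

theorem half (b : c.B A z) {H : Subgroup G} (hH : H ≤ A) {a : G} (ha : a ∈ A) :
    Nat.card H ≤ 2 * Nat.card (H ⊓ centralizer {a} : Subgroup G) :=
  two_le fun x hx y hy h1 h2 => by
    rw [mem_centralizer_singleton_iff] at h1 h2 ⊢
    have e1 := (b.comm (hH hx) ha).resolve_left h1
    have e2 := (b.comm (hH hy) ha).resolve_left h2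
    rw [mul_assoc, e2, ← mul_assoc, ← mul_assoc, e1, mul_assoc _ z, ← b.zc y (b.le (hH hy)), mul_assoc,
      mul_assoc y, b.z2, mul_one, mul_assoc]

theorem card_ext' (b : c.B A z) {H : Subgroup G} (hH : H ≤ A) (hz : z ∈ H) {a : G} (ha : a ∈ A) :
    (∀ g, g ∈ ext H a ↔ g ∈ H ∨ a * g ∈ H) ∧ (a ∉ H → Nat.card (ext H a) = 2 * Nat.card H) := by
  have h1 : a ∈ normalizer (H : Set G) := mem_normalizer_of_conj_mem fun x hx => by
    rcases b.comm ha (hH hx) with e | e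
    · rwa [e, mul_inv_cancel_right]
    · rw [e, mul_assoc x, b.zc a (b.le ha), ← mul_assoc, mul_inv_cancel_right]
      exact mul_mem hx hz
  have h2 : a * a ∈ H := by
    rcases b.sq a ha with e | e <;> rw [e]
    exacts [one_mem _, hz]
  exact ⟨fun g => mem_ext h1 h2, card_ext h1 h2⟩

theorem le16 (ne : ∀ E, ¬ c.El E) {H : Subgroup G} (h : H ≤ c.T) (sq : ∀ a ∈ H, a * a = 1) :
    Nat.card H ≤ 16 := by
  by_contra hc
  obtain ⟨E, -, hE⟩ := c.exists_el h sq (not_le.1 hc)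
  exact ne E hE

/-- The conjugate of the centraliser in `A` of a conjugate of `z`. -/
theorem pre (b : c.B A z) (ne : ∀ E, ¬ c.El E) {u : G} (hu : u ∈ A) (uz : u ≠ z) (h : IsConj u z) :
    (¬ ∀ a ∈ A, a * u = u * a) ∧ ∃ (R : Subgroup G) (t : G), R ≤ c.T ∧ z ∈ R ∧ t ∈ R ∧ t ≠ z ∧ IsConj t z ∧
      Nat.card R = 32 ∧ Nat.card (R ⊓ A : Subgroup G) = 16 ∧ (∀ r ∈ R, r * r = 1 ∨ r * r = t) ∧
      (∀ r ∈ R, ∀ s ∈ R, r * s = s * r ∨ r * s = s * r * t) ∧ (∀ r ∈ R, r * t = t * r) ∧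
      ∀ r ∈ R ⊓ A, r * r = 1 := by
  obtain ⟨g, hg, hT⟩ := c.ext' b.zc h
  have hm : ∀ r ∈ cj g (A ⊓ centralizer {u}), ∃ s ∈ A, s * u = u * s ∧ r = g * s * g⁻¹ := fun r hr =>
    ⟨_, (mem_cj.1 hr).1, mem_centralizer_singleton_iff.1 (mem_cj.1 hr).2, by group⟩
  have hR : cj g (A ⊓ centralizer {u}) ≤ c.T := fun r hr => by
    obtain ⟨s, hs, e, rfl⟩ := hm r hr
    exact hT s (b.le hs) e
  have tz : g * z * g⁻¹ ≠ z := fun e => uz (conj_inj.1 (hg.trans e.symm))
  have sq : ∀ r ∈ cj g (A ⊓ centralizer {u}), r * r = 1 ∨ r * r = g * z * g⁻¹ := fun r hr => by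
    obtain ⟨s, hs, -, rfl⟩ := hm r hr
    rw [← conj_mul']
    rcases b.sq s hs with e | e <;> rw [e]
    · exact .inl (by group)
    · exact .inr rfl
  have el : ∀ r ∈ cj g (A ⊓ centralizer {u}) ⊓ A, r * r = 1 := fun r hr =>
    (b.sq r hr.2).elim id fun e => (sq r hr.1).resolve_right fun e' => tz (e'.symm.trans e)
  have h1 := half b le_rfl hu
  have h2 := two_le (H := cj g (A ⊓ centralizer {u})) (K := A) fun x hx y hy => b.ix x (hR hx) y (hR hy)
  have h3 := le16 ne (inf_le_left.trans hR) el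
  have h4 := card_cj g (A ⊓ centralizer {u})
  have h5 := b.card
  refine ⟨fun hc => ?_, _, g * z * g⁻¹, hR, ?_, ?_, tz, (isConj_iff.2 ⟨g, rfl⟩).symm, by omega, by omega, sq,
    fun r hr s hs => ?_, fun r hr => ?_, el⟩
  · have e : A ⊓ centralizer {u} = A := inf_eq_left.2 fun a ha => mem_centralizer_singleton_iff.2 (hc a ha)
    rw [e] at h2 h3 h4
    omega
  · rw [← hg]
    exact conj_mem_cj.2 ⟨hu, mem_centralizer_singleton_iff.2 rfl⟩
  · exact conj_mem_cj.2 ⟨b.zA, mem_centralizer_singleton_iff.2 (b.zc u (b.le hu)).symm⟩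
  · obtain ⟨r, hr', -, rfl⟩ := hm r hr
    obtain ⟨s, hs', -, rfl⟩ := hm s hs
    simp only [← conj_mul', conj_inj]
    exact b.comm hr' hs'
  · obtain ⟨r, hr', -, rfl⟩ := hm r hr
    exact conj_comm g (b.zc r (b.le hr'))

end C3b

open C3b

theorem Cx.B.not_in {c : Cx G} {A : Subgroup G} {z : G} (b : c.B A z) (ne : ∀ E, ¬ c.El E) {u : G}
    (hu : u ∈ A) (uz : u ≠ z) : ¬ IsConj u z := by
  intro h
  obtain ⟨-, R, t, hR, zR, tR, tz, tc, c32, c16, sq, cm, tR', el⟩ := pre b ne hu uz h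
  have t2 : t * t = 1 := by
    obtain ⟨g, hg⟩ := isConj_iff.1 tc.symm
    rw [← hg, ← conj_mul', b.z2, mul_one, mul_inv_cancel]
  have tA : t ∈ A := by
    by_contra hn
    have := le16 ne hR fun r hr => (sq r hr).resolve_right fun e => hn (e ▸ b.ix.sq (hR hr))
    omega
  have tn := (pre b ne tA tz tc).1
  obtain ⟨y, yR, yA⟩ : ∃ y ∈ R, y ∉ A := SetLike.not_le_iff_exists.1 fun hle => by
    rw [inf_eq_left.2 hle] at c16
    omega
  have yT := hR yR
  have yN : ∀ s ∈ A, y * s * y⁻¹ ∈ A := fun s hs => (conj_mem_norm (b.ix.norm b.le yT)).2 hs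
  have yN' : ∀ s ∈ A, y⁻¹ * s * y⁻¹⁻¹ ∈ A := fun s hs => (conj_mem_norm (b.ix.norm b.le (inv_mem yT))).2 hs
  obtain ⟨a, ha, p0⟩ := b.p0
  have p1 := p0 y yT yA
  have a'A := yN a ha
  have za := b.zc a (b.le ha)
  have zy := b.zc y yT
  have a2 : y * a * y⁻¹ * (y * a * y⁻¹) = a * a := by
    rw [← conj_mul']
    rcases b.sq a ha with e | e <;> rw [e]
    · group
    · exact conj_eq_of_comm zy
  obtain ⟨w, hw⟩ : ∃ w, w = a⁻¹ * (y * a * y⁻¹) := ⟨_, rfl⟩
  have wA : w ∈ A := hw ▸ mul_mem (inv_mem ha) a'A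
  have w2 : w * w = z := by
    have e1 := b.zc _ (b.le a'A)
    rw [hw]
    generalize y * a * y⁻¹ = a' at p1 a2 e1
    calc a⁻¹ * a' * (a⁻¹ * a') = a⁻¹ * a⁻¹ * (a * a') * a⁻¹ * a' := by group
      _ = a⁻¹ * a⁻¹ * a' * (a * z * a⁻¹) * a' := by rw [p1]; group
      _ = a⁻¹ * a⁻¹ * (a' * a') * z := by rw [conj_eq_of_comm za, mul_assoc _ z, ← e1]; group
      _ = z := by rw [a2]; group
  have aU : a ∉ R ⊓ A := fun h1 => b.z1 (by
    have h2 := comm_of_sq el h1 (mem_inf.2 ⟨R.mul_mem (R.mul_mem yR h1.1) (R.inv_mem yR), a'A⟩)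
    rw [h2] at p1
    exact (mul_eq_left.1 p1.symm))
  obtain ⟨m1, k1⟩ := card_ext' b (inf_le_right : R ⊓ A ≤ A) ⟨zR, b.zA⟩ ha
  have l1 : ext (R ⊓ A) a ≤ A := ext_le.2 ⟨inf_le_right, ha⟩
  have wU : w ∉ ext (R ⊓ A) a := fun h1 => by
    rcases (m1 w).1 h1 with h2 | h2
    · exact b.z1 (w2.symm.trans (el w h2))
    · rw [hw, mul_inv_cancel_left] at h2
      exact aU ⟨by simpa [mul_assoc] using mul_mem (mul_mem (inv_mem yR) h2.1) yR, ha⟩
  have k2 := (card_ext' b l1 (le_ext _ _ ⟨zR, b.zA⟩) wA).2 wU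
  have hA : ext (ext (R ⊓ A) a) w = A :=
    eq_of_le_of_card_ge (ext_le.2 ⟨l1, wA⟩) (by rw [k2, k1 aU, c16, b.card])
  have gen : ∀ K : Subgroup G, R ⊓ A ≤ K → a ∈ K → w ∈ K → A ≤ K := fun K h1 h2 h3 =>
    hA.ge.trans (ext_le.2 ⟨ext_le.2 ⟨h1, h2⟩, h3⟩)
  -- a central involution
  obtain ⟨E1m, E1s, E1c⟩ := ext_elem (A := ⊥) (fun _ h => by rw [mem_bot.1 h, mul_one]) b.z2
    (fun _ h => by rw [mem_bot.1 h, mul_one, one_mul])
  obtain ⟨d, hd, dE⟩ : ∃ d ∈ R ⊓ A ⊓ centralizer {a} ⊓ centralizer {w}, d ∉ ext ⊥ z :=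
    SetLike.not_le_iff_exists.1 fun hle => by
      have h1 := half b (inf_le_right : R ⊓ A ≤ A) ha
      have h2 := half b (inf_le_left.trans inf_le_right : R ⊓ A ⊓ centralizer {a} ≤ A) wA
      have h3 := card_le_of_le hle
      rw [E1c (fun h => b.z1 (mem_bot.1 h)), card_bot] at h3
      omega
  have dA : ∀ s ∈ A, s * d = d * s := fun s hs => mem_centralizer_singleton_iff.1 (gen (centralizer {d})
    (fun r hr => mem_centralizer_singleton_iff.2 (comm_of_sq el hr hd.1.1))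
    (mem_centralizer_singleton_iff.2 (mem_centralizer_singleton_iff.1 hd.1.2).symm)
    (mem_centralizer_singleton_iff.2 (mem_centralizer_singleton_iff.1 hd.2).symm) hs)
  have dy : y * d = d * y := (cm y yR d hd.1.1.1).resolve_right fun e => tn fun s hs => by
    have e1 : y * d * y⁻¹ = d * t := by rw [e, mul_assoc d, tR' y yR, ← mul_assoc, mul_inv_cancel_right]
    have e2 := conj_comm y (dA _ (yN' s hs))
    rw [e1, show y * (y⁻¹ * s * y⁻¹⁻¹) * y⁻¹ = s by group, ← mul_assoc, dA s hs, mul_assoc, mul_assoc] at e2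
    exact mul_left_cancel e2
  have dT : ∀ s ∈ c.T, s * d = d * s := fun s hs => by
    by_cases h1 : s ∈ A
    · exact dA s h1
    · have := dA _ (b.ix s hs y yT h1 yA)
      rw [mul_assoc, dy, ← mul_assoc, ← mul_assoc] at this
      exact mul_right_cancel this
  -- the subgroup containing all the squares
  have E1z : ∀ e ∈ ext ⊥ z, ∀ s ∈ c.T, s * e = e * s := fun e he s hs =>
    (mem_centralizer_singleton_iff.1 ((ext_le (K := centralizer {s})).2
      ⟨bot_le, mem_centralizer_singleton_iff.2 (b.zc s hs).symm⟩ he)).symm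
  obtain ⟨E2m, E2s, -⟩ := ext_elem E1s t2 fun e he => E1z e he t (hR tR)
  have wt : w * t = t * w := by
    have e0 : y * t * y⁻¹ = t := conj_eq_of_comm (tR' y yR)
    rcases b.comm ha tA with e | e
    · have e1 := conj_comm y e
      rw [e0] at e1
      rw [hw, mul_assoc, e1, ← mul_assoc, ← mul_assoc t, ((show Commute a t from e).inv_left).eq]
    · have e1 := congrArg (fun s => y * s * y⁻¹) e
      simp only [conj_mul', e0, conj_eq_of_comm zy] at e1
      have e2 := b.zc _ (b.le a'A)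
      rw [hw]
      generalize y * a * y⁻¹ = a' at e1 e2
      calc a⁻¹ * a' * t = a⁻¹ * (t * a * z) * z⁻¹ * a⁻¹ * (a' * z) := by rw [mul_assoc, e1]; group
        _ = t * a⁻¹ * a' := by
          rw [← e, e2, inv_of_sq b.z2, inv_mul_cancel_left, mul_assoc t, ← ((show Commute a z from za).inv_left).eq,
            mul_assoc t, mul_assoc a⁻¹ z, sq_cancel b.z2, mul_assoc]
        _ = _ := mul_assoc _ _ _
  have zE : z ∈ ext (ext ⊥ z) t := le_ext _ _ (self_mem_ext _ _)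
  have wN : w ∈ normalizer ((ext (ext ⊥ z) t : Subgroup G) : Set G) :=
    centralizer_le_normalizer _ (mem_centralizer_iff.2 fun e he => mem_centralizer_singleton_iff.1
      ((ext_le (K := centralizer {w})).2 ⟨fun e he => mem_centralizer_singleton_iff.2 (E1z e he w (b.le wA)).symm,
        mem_centralizer_singleton_iff.2 wt.symm⟩ he))
  have Ym := fun g => mem_ext (g := g) wN (w2 ▸ zE)
  have YT : ext (ext (ext ⊥ z) t) w ≤ c.T := ext_le.2 ⟨ext_le.2 ⟨ext_le.2 ⟨bot_le, b.le b.zA⟩, hR tR⟩, b.le wA⟩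
  have zY : z ∈ ext (ext (ext ⊥ z) t) w := le_ext _ _ zE
  have tY : t ∈ ext (ext (ext ⊥ z) t) w := le_ext _ _ (self_mem_ext _ _)
  have wY : w ∈ ext (ext (ext ⊥ z) t) w := self_mem_ext _ _
  generalize ext (ext (ext ⊥ z) t) w = Y at Ym YT zY tY wY
  have sA : ∀ s ∈ A, s * s ∈ Y := fun s hs => by
    rcases b.sq s hs with e | e <;> rw [e]
    exacts [one_mem _, zY]
  have mul : ∀ {r s : G}, r ∈ A ∧ r⁻¹ * (y * r * y⁻¹) ∈ Y → s ∈ A ∧ s⁻¹ * (y * s * y⁻¹) ∈ Y →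
      r * s ∈ A ∧ (r * s)⁻¹ * (y * (r * s) * y⁻¹) ∈ Y := fun hr hs => ⟨mul_mem hr.1 hs.1, by
    rcases b.gam_mul yT hr.1 hs.1 with e | e <;> rw [e]
    exacts [mul_mem hr.2 hs.2, mul_mem (mul_mem hr.2 hs.2) zY]⟩
  let K : Subgroup G :=
    { carrier := {r | r ∈ A ∧ r⁻¹ * (y * r * y⁻¹) ∈ Y}
      mul_mem' := mul
      one_mem' := ⟨one_mem _, by simpa using one_mem Y⟩
      inv_mem' := fun {r} hr => by
        have : r⁻¹ = r * (r * r) := inv_eq_of_mul_eq_one_right (by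
          rw [← mul_assoc]
          rcases b.sq r hr.1 with e | e <;> rw [e]
          exacts [mul_one _, b.z2])
        rw [this]
        exact mul hr (mul hr hr) }
  have hK : A ≤ K := gen K (fun r hr => ⟨hr.2, by
      rcases cm y yR r hr.1 with e | e <;> rw [e]
      · simpa using one_mem Y
      · rwa [mul_assoc r, tR' y yR, ← mul_assoc r, mul_inv_cancel_right, inv_mul_cancel_left]⟩)
    ⟨ha, hw ▸ wY⟩ ⟨wA, mul_mem (inv_mem wY) (by
      have e1 : y * w * y⁻¹ = w⁻¹ * (a⁻¹ * (y * y * a * (y * y)⁻¹)) := by rw [hw]; group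
      rw [e1]
      refine mul_mem (inv_mem wY) ?_
      rcases b.comm (b.ix.sq yT) ha with e | e <;> rw [e]
      · rw [mul_inv_cancel_right, inv_mul_cancel]
        exact one_mem Y
      · rwa [mul_assoc a, b.zc _ (mul_mem yT yT), ← mul_assoc a, mul_inv_cancel_right, inv_mul_cancel_left])⟩
  have dY : d ∈ Y := c.cen' b.norm_le YT (fun s hs => by
    by_cases h1 : s ∈ A
    · exact sA s h1
    · have h2 := b.ix s hs y⁻¹ (inv_mem yT) h1 (fun h => yA (inv_mem_iff.1 h))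
      rw [show s * s = s * y⁻¹ * (s * y⁻¹) * ((s * y⁻¹)⁻¹ * (y * (s * y⁻¹) * y⁻¹)) * (y * y) by group]
      refine mul_mem (mul_mem (sA _ h2) (hK h2).2) ?_
      rcases sq y yR with e | e <;> rw [e]
      exacts [one_mem _, tY]) (hR hd.1.1.1) (el d hd.1.1) dT
  rcases (Ym d).1 dY with h1 | h1
  · refine tn fun s hs => ?_
    have := E1z _ (((E2m d).1 h1).resolve_left dE) s (b.le hs)
    rw [mul_assoc t, ← dA s hs, ← mul_assoc, ← mul_assoc] at this
    exact mul_right_cancel this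
  · have := E2s _ h1
    rw [mul_assoc, ← mul_assoc d, ← dA w wA, mul_assoc, el d hd.1.1, mul_one, w2] at this
    exact b.z1 this

end Cfsg.Agent.C128
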