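import Mathlib
import Cfsg.Agent.C128.CBas
import Cfsg.Agent.Inv.SecRank
import Cfsg.Agent.Or8.Bas

/-! Sectional rank five gives `El` or `B` (PLAN: CB, of_not_sr). See `stubs/Cfsg/Agent/C128/PLAN.md`. -/

set_option autoImplicit false
set_option linter.unusedSectionVars false

namespace Cfsg.Agent.C128

open Cfsg.Agent.Inv.Fz Cfsg.Agent.NE Subgroup

variable {G : Type*} [Group G] [Finite G]

theorem CSr.card_two {K H : Subgroup G} (hle : K ≤ H) {a : G} (ha : a ∈ H) (haK : a ∉ K)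
    (ix : ∀ u ∈ H, ∀ v ∈ H, u ∉ K → v ∉ K → u * v ∈ K) : Nat.card H = 2 * Nat.card K := by
  have : K.relIndex H = 2 := relIndex_eq_two_iff.2 ⟨a, ha, fun b hb => by
    by_cases h : b ∈ K
    · exact Or.inr ⟨h, fun k => haK ((mul_mem_cancel_left h).1 k)⟩
    · exact Or.inl ⟨ix b hb a ha h haK, h⟩⟩
  rw [← card_mul_relIndex hle, this, mul_comm]

/-- The squares of `T` lie in a normal cyclic subgroup of order four. -/
theorem CSr.four (c : Cx G) {N : Subgroup G} (hN : Nat.card N = 4) (hn : c.T ≤ normalizer (N : Set G))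
    (sq : ∀ a ∈ c.T, a * a ∈ N) : ∃ A z, c.B A z := by
  obtain ⟨w, hw⟩ : ∃ w, w = c.x * c.x := ⟨_, rfl⟩
  have ow : orderOf w = 4 := by rw [hw, ← pow_two, orderOf_pow' _ two_ne_zero, c.ox]; rfl
  have eN : zpowers w = N := eq_of_le_of_card_ge (zpowers_le.2 (hw ▸ sq _ c.xT)) (by rw [hN, Nat.card_zpowers, ow])
  have wT : w ∈ c.T := hw ▸ mul_mem c.xT c.xT
  have z1 : w * w ≠ 1 := fun h => by
    have := orderOf_dvd_of_pow_eq_one ((pow_two w).trans h)
    rw [ow] at this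
    omega
  have z2 : w * w * (w * w) = 1 := by
    have := pow_orderOf_eq_one w
    rwa [ow, show 4 = 2 * 2 from rfl, pow_mul, pow_two, pow_two] at this
  have mem : ∀ u ∈ N, (u = 1 ∨ u = w * w) ∧ u * u = 1 ∨ (u = w ∨ u = w⁻¹) ∧ u * u = w * w := fun u hu => by
    classical
    rw [← eN, mem_zpowers_iff_mem_range_orderOf, ow, Finset.mem_image] at hu
    obtain ⟨i, hi, rfl⟩ := hu
    have e : w ^ 3 = w⁻¹ := eq_inv_of_mul_eq_one_left (by rw [← z2]; simp only [pow_succ, pow_zero, one_mul, mul_assoc])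
    rw [Finset.mem_range] at hi
    interval_cases i
    · simp
    · simp
    · exact Or.inl ⟨Or.inr (pow_two w), by rw [pow_two, z2]⟩
    · exact Or.inr ⟨Or.inr e, by rw [e, ← mul_inv_rev, inv_eq_of_mul_eq_one_right z2]⟩
  have wN : w ∈ N := eN ▸ mem_zpowers w
  have cN : ∀ g, g * w = w * g → ∀ u ∈ N, Commute g u := fun g h u hu => comm_zpowers h (eN ▸ hu)
  have act : ∀ t ∈ c.T, t * w ≠ w * t → t * w * t⁻¹ = w⁻¹ := fun t ht h => by
    rcases mem _ ((conj_mem_norm (hn ht)).2 wN) with ⟨-, e⟩ | ⟨e | e, -⟩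
    · rw [conj_mul, conj_eq_one_iff] at e
      exact absurd e z1
    · exact absurd (comm_of_conj_eq e) h
    · exact e
  have hom : ∀ g ∈ c.T ⊓ centralizer {w}, ∀ h ∈ c.T ⊓ centralizer {w},
      g * h * (g * h) * (g * h * (g * h)) = g * g * (g * g) * (h * h * (h * h)) := fun g hg h hh => by
    have g1 := cN g (mem_centralizer_singleton_iff.1 hg.2)
    have h1 := cN h (mem_centralizer_singleton_iff.1 hh.2)
    have a := sq g hg.1
    have b := sq h hh.1
    have k : g⁻¹ * (h * g * h⁻¹) ∈ N := by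
      have := mul_mem (mul_mem (inv_mem a) (sq _ (mul_mem hg.1 hh.1))) (inv_mem b)
      convert this using 1
      group
    obtain ⟨k, hk, e⟩ : ∃ k ∈ N, h * g * h⁻¹ = g * k := ⟨_, k, by group⟩
    have k2 : k * k = 1 := by
      have : g * g * (k * k) = g * g * 1 := by
        rw [← (g1 k hk).symm.mul_mul_mul_comm, ← e, conj_mul, (h1 _ a).eq, mul_one, mul_inv_cancel_right]
      exact mul_left_cancel this
    have e2 : g * h * (g * h) = g * g * k * (h * h) := by
      calc _ = g * (h * g * h⁻¹) * (h * h) := by group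
        _ = _ := by rw [e, ← mul_assoc g g]
    have c1 : Commute (h * h) (g * g * k) := (h1 _ (mul_mem a hk)).mul_left (h1 _ (mul_mem a hk))
    have c2 : Commute k (g * g) := ((g1 k hk).mul_left (g1 k hk)).symm
    rw [e2, c1.mul_mul_mul_comm, c2.mul_mul_mul_comm, k2, mul_one]
  let C1 : Subgroup G :=
    { carrier := {g | g ∈ c.T ⊓ centralizer {w} ∧ g * g * (g * g) = 1}
      one_mem' := ⟨one_mem _, by simp⟩
      mul_mem' := fun {g h} hg hh => ⟨mul_mem hg.1 hh.1, by rw [hom g hg.1 h hh.1, hg.2, hh.2, mul_one]⟩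
      inv_mem' := fun {g} hg => ⟨inv_mem hg.1, by rw [← mul_inv_rev, ← mul_inv_rev, hg.2, inv_one]⟩ }
  have s1 : ∀ g ∈ C1, g * g = 1 ∨ g * g = w * w := fun g hg =>
    (mem _ (sq g hg.1.1)).elim (·.1) fun e => absurd (e.2.symm.trans hg.2) z1
  have xC : c.x ∈ c.T ⊓ centralizer {w} := ⟨c.xT, mem_centralizer_singleton_iff.2 (by rw [hw, mul_assoc])⟩
  have k1 := CSr.card_two (K := C1) (fun g hg => hg.1) xC (fun h => z1 (hw ▸ h.2)) fun u hu v hv h h' =>
    ⟨mul_mem hu hv, by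
      rw [hom u hu v hv, ((mem _ (sq u hu.1)).resolve_left fun e => h ⟨hu, e.2⟩).2,
        ((mem _ (sq v hv.1)).resolve_left fun e => h' ⟨hv, e.2⟩).2, z2]⟩
  by_cases hC : ∀ t ∈ c.T, t * w = w * t
  · rw [inf_eq_left.2 fun t ht => mem_centralizer_singleton_iff.2 (hC t ht), c.card] at k1
    exact ⟨C1, w * w, fun g hg => hg.1.1, by omega, z1, z2, s1⟩
  push Not at hC
  obtain ⟨t, ht, tw⟩ := hC
  have out : ∀ g ∈ c.T, g * w ≠ w * g → (g * g = 1 ∨ g * g = w * w) ∧ g * g * (g * g) = 1 := fun g hg h =>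
    (mem _ (sq g hg)).resolve_right fun e => h (e.1.elim (fun e => by rw [← e, mul_assoc]) fun e => by
      rw [← inv_inv w, ← e]
      group)
  have k2 := CSr.card_two (K := c.T ⊓ centralizer {w}) inf_le_left ht
    (fun h => tw (mem_centralizer_singleton_iff.1 h.2)) fun u hu v hv h h' => ⟨mul_mem hu hv, by
      refine mem_centralizer_singleton_iff.2 (comm_of_conj_eq ?_)
      rw [← conj_conj, act v hv fun e => h' ⟨hv, mem_centralizer_singleton_iff.2 e⟩, ← conj_inv,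
        act u hu fun e => h ⟨hu, mem_centralizer_singleton_iff.2 e⟩, inv_inv]⟩
  have tn : t ∈ normalizer (C1 : Set G) := mem_normalizer_of_conj_mem fun g hg =>
    ⟨⟨c.T.mul_mem (c.T.mul_mem ht hg.1.1) (c.T.inv_mem ht), mem_centralizer_singleton_iff.2 (by
      have := conj_comm t (show Commute g w from mem_centralizer_singleton_iff.1 hg.1.2).inv_right.eq
      rwa [← conj_inv, act t ht tw, inv_inv] at this)⟩, by rw [conj_mul, conj_mul, hg.2, mul_one, mul_inv_cancel]⟩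
  have t2 : t * t ∈ C1 := ⟨⟨mul_mem ht ht, mem_centralizer_singleton_iff.2 (cN w rfl _ (sq t ht)).symm.eq⟩, by
    rw [(out t ht tw).2, mul_one]⟩
  have hle : ext C1 t ≤ c.T := ext_le.2 ⟨fun g hg => hg.1.1, ht⟩
  refine ⟨ext C1 t, w * w, hle, ?_, z1, z2, fun g hg => ((mem_ext tn t2).1 hg).elim (s1 g) fun h =>
    (out g (hle hg) fun e => tw ?_).1⟩
  · rw [card_ext tn t2 fun h => tw (mem_centralizer_singleton_iff.1 h.1.2), ← k1]
    rw [c.card] at k2
    omega
  · simpa using ((show Commute (t * g) w from mem_centralizer_singleton_iff.1 h.1.2).mul_left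
      (show Commute g w from e).inv_left).eq

theorem Cx.of_not_sr (c : Cx G) (h : ¬ Cfsg.SectionalPRankLE 2 4 G) :
    (∃ E, c.El E) ∨ ∃ A z, c.B A z := by
  have h1 := mt (fun k => Inv.Sec.sec_of_sylow c.syl.toSylowTop (Or8.sr_of k)) h
  push Not at h1
  obtain ⟨H, N, hNH, hH, hn, sq, hc⟩ := h1
  replace hH : H ≤ c.T := hH
  have d1 : Nat.card H ∣ 2 ^ 7 := (card_dvd_of_le hH).trans (by rw [c.card]; rfl)
  obtain ⟨a, ha, ea⟩ := (Nat.dvd_prime_pow Nat.prime_two).1 d1
  obtain ⟨b, hb, eb⟩ := (Nat.dvd_prime_pow Nat.prime_two).1 ((card_dvd_of_le hNH).trans d1)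
  have top : a = 7 → H = c.T := fun e => eq_of_le_of_card_ge hH (by rw [ea, e, c.card]; rfl)
  have hab : 4 + b < a := by
    rw [ea, eb, show 16 = 2 ^ 4 from rfl, ← pow_add] at hc
    exact (Nat.pow_lt_pow_iff_right one_lt_two).1 hc
  obtain rfl | rfl | rfl : b = 0 ∨ b = 1 ∨ b = 2 := by omega
  · obtain rfl : N = ⊥ := card_eq_one.1 eb
    obtain ⟨E, -, e⟩ := c.exists_el hH sq (by simpa using hc)
    exact Or.inl ⟨E, e⟩
  · obtain ⟨⟨z, hz⟩, z1, uz⟩ := (Nat.card_eq_two_iff' (1 : N)).1 eb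
    have mem : ∀ u ∈ N, u = 1 ∨ u = z := fun u hu => or_iff_not_imp_left.2 fun k =>
      congrArg Subtype.val (uz ⟨u, hu⟩ fun e => k (congrArg Subtype.val e))
    replace z1 : z ≠ 1 := fun e => z1 (Subtype.ext e)
    have z2 : z * z = 1 := (mem _ (mul_mem hz hz)).resolve_right fun e => z1 (mul_eq_left.1 e)
    refine Or.inr ⟨H, z, hH, ?_, z1, z2, fun g hg => mem _ (sq g hg)⟩
    obtain rfl | rfl : a = 6 ∨ a = 7 := by omega
    · exact ea
    have : c.x ^ (2 * 2) = 1 := by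
      rw [pow_mul, pow_two, pow_two]
      rcases mem _ (sq c.x (top rfl ▸ c.xT)) with e | e <;> rw [e]
      exacts [mul_one _, z2]
    have := orderOf_dvd_of_pow_eq_one this
    rw [c.ox] at this
    omega
  · obtain rfl := top (by omega)
    exact Or.inr (CSr.four c eb hn sq)

end Cfsg.Agent.C128
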