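import Mathlib
import Cfsg.Agent.Or8.Li1
import Cfsg.Agent.Chev.LieOrd
import Cfsg.Agent.Cl.LinearIsoA8
import Cfsg.Prelude.Def_Spor_J2

/-! The known simple groups whose element orders are element orders of `A₁₀`: linear and alternating groups. -/

set_option autoImplicit false
set_option linter.unusedSectionVars false
open Cfsg Subgroup

namespace Cfsg.Agent.C128

/-- The element orders of the alternating group of degree ten. -/
def Om : Finset ℕ := {1, 2, 3, 4, 5, 6, 7, 8, 9, 10, 12, 15, 21}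

/-- All element orders lie in `Om`. -/
def St (G : Type*) [Group G] : Prop := ∀ g : G, orderOf g ∈ Om

/-- `G` is `PSU(4, 3)`. -/
def IsU43 (G : Type*) [Group G] : Prop :=
  ∃ (F : Type) (_ : Field F) (_ : Fintype F), Fintype.card F = 3 ^ 2 ∧ Nonempty (G ≃* PSU 4 F 3)

/-- The list. -/
def Tgt (G : Type*) [Group G] : Prop :=
  Nat.card G ∈ ({60, 360, 25920, 168, 504, 2520, 6048, 126000} : Finset ℕ) ∨
    Nonempty (G ≃* alternatingGroup (Fin 8)) ∨ Nonempty (G ≃* alternatingGroup (Fin 9)) ∨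
    Nonempty (G ≃* alternatingGroup (Fin 10)) ∨ Or8.IsL34 G ∨ IsU43 G ∨ Spor.IsoJ2 G

theorem om_dvd {n s : ℕ} (hn : n ∈ Om) (hs : s ∣ n) : s ∈ Om := by
  have h : ∀ n ∈ Om, ∀ s ∈ n.divisors, s ∈ Om := by decide
  refine h n hn s (Nat.mem_divisors.2 ⟨hs, ?_⟩)
  rintro rfl
  revert hn
  decide

theorem om_le {n : ℕ} (hn : n ∈ Om) : n ≤ 21 := by
  have h : ∀ n ∈ Om, n ≤ 21 := by decide
  exact h n hn

theorem om_prime {p : ℕ} (hn : p ∈ Om) (hp : p.Prime) : p = 2 ∨ p = 3 ∨ p = 5 ∨ p = 7 := by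
  have h : ∀ n ∈ Om, n.Prime → n = 2 ∨ n = 3 ∨ n = 5 ∨ n = 7 := by decide
  exact h p hn hp

section

variable {G : Type*} [Group G]

theorem st_of_pow (h : ∀ g : G, g ^ 8 = 1 ∨ g ^ 9 = 1 ∨ g ^ 10 = 1 ∨ g ^ 12 = 1 ∨ g ^ 15 = 1 ∨
    g ^ 21 = 1 ∨ g ^ 7 = 1) : St G := fun g => by
  rcases h g with k | k | k | k | k | k | k <;>
    exact om_dvd (by decide) (orderOf_dvd_of_pow_eq_one k)

theorem St.of_injective (h : St G) {H : Type*} [Group H] (f : H →* G)
    (hf : Function.Injective f) : St H := fun g => orderOf_injective f hf g ▸ h _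

theorem St.of_equiv (h : St G) {H : Type*} [Group H] (e : G ≃* H) : St H :=
  h.of_injective e.symm.toMonoidHom e.symm.injective

theorem St.dvd (h : St G) {s : ℕ} {x : G} (hx : s ∣ orderOf x) : s ∈ Om := om_dvd (h x) hx

theorem St.range (h : St G) {m : ℕ} (hm : m ∈ Set.range (orderOf : G → ℕ)) : m ∈ Om := by
  obtain ⟨g, rfl⟩ := hm
  exact h g

theorem St.prime [Finite G] (h : St G) {p : ℕ} (hp : p.Prime) (hd : p ∣ Nat.card G) :
    p = 2 ∨ p = 3 ∨ p = 5 ∨ p = 7 := by
  have := Fact.mk hp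
  obtain ⟨g, hg⟩ := exists_prime_orderOf_dvd_card' p hd
  exact om_prime (hg ▸ h g) hp

theorem specM_lt {a : ℤ} {n : ℕ} (ha : a ≠ 1) (h : Cl.specM a n ∈ Om) :
    Cl.specS a n < 22 * (a - 1).natAbs := by
  have h1 := om_le h
  have h0 : 0 < (a - 1).natAbs := by omega
  have hg : Nat.gcd (Cl.specS a n) (a - 1).natAbs ≤ (a - 1).natAbs := Nat.gcd_le_right _ h0
  have hp : 0 < Nat.gcd (Cl.specS a n) (a - 1).natAbs := Nat.gcd_pos_of_pos_right _ h0
  rw [Cl.specM] at h1
  have h2 := (Nat.div_lt_iff_lt_mul hp).1 (Nat.lt_succ_of_le h1)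
  omega

end

universe u

variable {G : Type u} [Group G] [Finite G] [IsSimpleGroup G]

theorem tgt_psl2 (h : St G) (hG : ¬ IsMulCommutative G) {F : Type} [Field F] [Fintype F]
    (e : G ≃* Matrix.ProjectiveSpecialLinearGroup (Fin 2) F) : Tgt G := by
  have h' := h.of_equiv e
  have hq2 : 2 ≤ Fintype.card F := Fintype.one_lt_card
  have hc := Chev.Ord.card_psl (F := F) 0
  rw [← Nat.card_congr e.toEquiv] at hc
  simp only [Finset.sum_range_succ, Finset.prod_range_succ, Finset.range_zero, Finset.sum_empty,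
    Finset.prod_empty] at hc
  by_cases h4 : Fintype.card F < 4
  · refine (Or8.li1_small hG (MulEquiv.refl G) ?_).elim
    generalize Fintype.card F = q at *
    interval_cases q <;> norm_num at hc <;> omega
  obtain ⟨p, hc', k, hp, hq⟩ := FiniteField.card' F
  have := Fact.mk hp
  have hR := S2475.result (F := F) p (by omega)
  have a1 : p ∈ Om := h'.range (by rw [hR]; exact Or.inl dvd_rfl)
  have a2 : (Fintype.card F + 1) / Nat.gcd 2 (Fintype.card F - 1) ∈ Om :=
    h'.range (by rw [hR]; exact Or.inr (Or.inr dvd_rfl))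
  have a2' : (Fintype.card F - 1) / Nat.gcd 2 (Fintype.card F - 1) ∈ Om :=
    h'.range (by rw [hR]; exact Or.inr (Or.inl dvd_rfl))
  have hg : Nat.gcd 2 (Fintype.card F - 1) ≤ 2 := Nat.gcd_le_left _ two_pos
  have hg0 : 0 < Nat.gcd 2 (Fintype.card F - 1) := Nat.gcd_pos_of_pos_left _ two_pos
  have a3 : Fintype.card F ≤ 43 := by
    have := Nat.div_le_div_left (a := Fintype.card F + 1) hg hg0
    have := om_le a2
    omega
  have hpp : IsPrimePow (Fintype.card F) := by
    rw [hq]
    exact hp.isPrimePow.pow k.ne_zero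
  have hmin : (Fintype.card F).minFac = p := by
    rw [hq]
    exact hp.pow_minFac k.ne_zero
  rw [← hmin] at a1
  have key : ∀ q ∈ Finset.Icc 4 43, q.minFac ∈ Om → (q + 1) / Nat.gcd 2 (q - 1) ∈ Om →
      (q - 1) / Nat.gcd 2 (q - 1) ∈ Om → q ∈ ({4, 5, 6, 7, 8, 9, 15} : Finset ℕ) := by
    decide +kernel
  have k2 := key _ (Finset.mem_Icc.2 ⟨by omega, a3⟩) a1 a2 a2'
  left
  generalize Fintype.card F = q at *
  simp only [Finset.mem_insert, Finset.mem_singleton] at k2 ⊢
  rcases k2 with rfl | rfl | rfl | rfl | rfl | rfl | rfl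
  · norm_num at hc; omega
  · norm_num at hc; omega
  · exact absurd hpp (by decide +kernel)
  · norm_num at hc; omega
  · norm_num at hc; omega
  · norm_num at hc; omega
  · exact absurd hpp (by decide +kernel)

theorem tgt_psl3 (h : St G) {F : Type} [Field F] [Fintype F]
    (e : G ≃* Matrix.ProjectiveSpecialLinearGroup (Fin 3) F) : Tgt G := by
  have h' := h.of_equiv e
  have hq2 : 2 ≤ Fintype.card F := Fintype.one_lt_card
  have hc := Chev.Ord.card_psl (F := F) 1
  rw [← Nat.card_congr e.toEquiv] at hc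
  simp only [Finset.sum_range_succ, Finset.prod_range_succ, Finset.range_zero, Finset.sum_empty,
    Finset.prod_empty] at hc
  obtain ⟨p, hc', k, hp, hq⟩ := FiniteField.card' F
  have := Fact.mk hp
  have hR := S2476.result (F := F) p
  have a2 : (Fintype.card F ^ 2 + Fintype.card F + 1) / Nat.gcd 3 (Fintype.card F - 1) ∈ Om :=
    h'.range (by rw [hR]; exact Or.inl dvd_rfl)
  have hg : Nat.gcd 3 (Fintype.card F - 1) ≤ 3 := Nat.gcd_le_left _ three_pos
  have hg0 : 0 < Nat.gcd 3 (Fintype.card F - 1) := Nat.gcd_pos_of_pos_left _ three_pos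
  have a3 : Fintype.card F ≤ 7 := by
    have h1 := Nat.div_le_div_left (a := Fintype.card F ^ 2 + Fintype.card F + 1) hg hg0
    have := om_le a2
    have h2 : Fintype.card F ^ 2 + Fintype.card F + 1 ≤ 65 := by omega
    by_contra h5
    nlinarith
  have key : Fintype.card F = 2 ∨ Fintype.card F = 4 := by
    generalize Fintype.card F = q at *
    interval_cases q <;> first | omega | (exfalso; revert a2; decide)
  rcases key with h2 | h4
  · left
    rw [h2] at hc
    norm_num at hc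
    rw [hc]
    decide
  · exact Or.inr (Or.inr (Or.inr (Or.inr (Or.inl ⟨F, inferInstance, inferInstance, h4, ⟨e⟩⟩))))

theorem tgt_psl4 (h : St G) {F : Type} [Field F] [Fintype F]
    (hF : Odd (Fintype.card F) ∨ Fintype.card F = 2)
    (e : G ≃* Matrix.ProjectiveSpecialLinearGroup (Fin 4) F) : Tgt G := by
  rcases hF with hF | hF
  swap
  · exact Or.inr (Or.inl ⟨e.trans (Cl.psl4_two_equiv_alt (Nat.card_eq_fintype_card.trans hF)).some⟩)
  exfalso
  have hq2 : 2 ≤ Fintype.card F := Fintype.one_lt_card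
  obtain ⟨g, hg⟩ := Cl.spec_exists_singer_SL (F := F) (ι := Fin 4) (by simp)
  rw [Fintype.card_fin] at hg
  have h1 := (h.of_equiv e).dvd hg
  generalize Fintype.card F = q at *
  by_cases h3 : q = 3
  · subst h3
    revert h1
    decide
  have h2 := specM_lt (by omega) h1
  obtain ⟨k, rfl⟩ := hF
  simp only [Cl.specS, Finset.sum_range_succ, Finset.range_zero, Finset.sum_empty] at h2
  have h5 : (2 : ℤ) ≤ k := by omega
  zify at h2
  rw [abs_of_nonneg (by positivity), abs_of_nonneg (by omega)] at h2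
  nlinarith [mul_nonneg (sub_nonneg.2 h5) (sub_nonneg.2 h5), mul_nonneg (sub_nonneg.2 h5) (mul_nonneg (sub_nonneg.2 h5) (sub_nonneg.2 h5))]

theorem no_psl5 (h : St G) {F : Type} [Field F] [Fintype F]
    (e : G ≃* Matrix.ProjectiveSpecialLinearGroup (Fin 5) F) : False := by
  have hq2 : 2 ≤ Fintype.card F := Fintype.one_lt_card
  obtain ⟨g, hg⟩ := Cl.spec_exists_singer_SL (F := F) (ι := Fin 5) (by simp)
  rw [Fintype.card_fin] at hg
  have h1 := (h.of_equiv e).dvd hg
  generalize Fintype.card F = q at *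
  have h2 := specM_lt (by omega) h1
  simp only [Cl.specS, Finset.sum_range_succ, Finset.range_zero, Finset.sum_empty] at h2
  have h5 : (2 : ℤ) ≤ q := by omega
  zify at h2
  rw [abs_of_nonneg (by positivity), abs_of_nonneg (by omega)] at h2
  obtain ⟨r, hr⟩ : ∃ r : ℤ, (q : ℤ) = r + 2 := ⟨q - 2, by ring⟩
  have h0 : 0 ≤ r := by omega
  rw [hr] at h2
  nlinarith [pow_nonneg h0 2, pow_nonneg h0 3, pow_nonneg h0 4]

theorem card_alt (n : ℕ) (hn : 2 ≤ n) : 2 * Nat.card (alternatingGroup (Fin n)) = n.factorial := by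
  haveI : Nontrivial (Fin n) := Fin.nontrivial_iff_two_le.2 hn
  have h6 := (alternatingGroup (Fin n)).card_mul_index
  rw [alternatingGroup.index_eq_two, Nat.card_perm, Nat.card_fin] at h6
  omega

theorem tgt_alt (h : St G) {n : ℕ} (h7 : 7 ≤ n) (h11 : n ≤ 11)
    (e : G ≃* alternatingGroup (Fin n)) : Tgt G := by
  have hc := card_alt n (by omega)
  rw [← Nat.card_congr e.toEquiv] at hc
  interval_cases n
  · left
    have : Nat.card G = 2520 := by norm_num [Nat.factorial] at hc; omega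
    rw [this]
    decide
  · exact Or.inr (Or.inl ⟨e⟩)
  · exact Or.inr (Or.inr (Or.inl ⟨e⟩))
  · exact Or.inr (Or.inr (Or.inr (Or.inl ⟨e⟩)))
  · have := h.prime (p := 11) (by norm_num) (by norm_num [Nat.factorial] at hc; omega)
    omega

end Cfsg.Agent.C128
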