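import Mathlib
import Cfsg.Agent.C128.LiA
import Cfsg.Agent.Or8.Li2
import Cfsg.Agent.Inv.U3Syl
import Cfsg.Agent.Cl.Sm.Base
import Cfsg.Agent.Cl.SpOrder

/-! The known simple groups whose element orders are element orders of `A₁₀`: the other families. -/

set_option autoImplicit false
set_option linter.unusedSectionVars false
open Cfsg Subgroup

namespace Cfsg.Agent.C128

universe u

variable {G : Type u} [Group G] [Finite G]

theorem tgt_psu3 (h : St G) {F : Type} [Field F] [Fintype F] {q : ℕ}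
    (hF : Fintype.card F = q ^ 2) (hq : Odd q ∨ 4 ≤ q) (e : G ≃* PSU 3 F q) : Tgt G := by
  obtain ⟨σ, hσ⟩ := Cl.exists_uField hF
  have h2 := hσ.two_le
  have hc := Inv.U3.card_PSU_three hσ
  rw [← Nat.card_congr e.toEquiv] at hc
  obtain ⟨g, hg⟩ := Cl.spec_exists_singer_SU (n := 3) hσ (by norm_num)
  rw [S2366.specM_three (by omega)] at hg
  have h1 := (h.of_equiv e).dvd hg
  have hg3 : Nat.gcd 3 (q + 1) ≤ 3 := Nat.gcd_le_left _ (by norm_num)
  have hg0 : 0 < Nat.gcd 3 (q + 1) := Nat.gcd_pos_of_pos_left _ (by norm_num)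
  have h9 : q ^ 2 - q + 1 < 22 * Nat.gcd 3 (q + 1) :=
    (Nat.div_lt_iff_lt_mul hg0).1 (Nat.lt_succ_of_le (om_le h1))
  have h8 : q ≤ 8 := by
    by_contra h8
    have : 9 * q ≤ q ^ 2 := by nlinarith
    omega
  have key : q = 3 ∨ q = 5 := by
    clear hc h9 hg hσ hF e g hg3 hg0
    interval_cases q <;> first | omega | (exfalso; revert h1; decide) | (exfalso; revert hq; decide)
  left
  rcases key with rfl | rfl
  · have : Nat.card G = 6048 := by norm_num at hc; omega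
    rw [this]
    decide
  · have : Nat.card G = 126000 := by norm_num at hc; omega
    rw [this]
    decide

theorem tgt_psu4 (h : St G) {F : Type} [Field F] [Fintype F] {q : ℕ}
    (hF : Fintype.card F = q ^ 2) (hq : Odd q) (e : G ≃* PSU 4 F q) : Tgt G := by
  obtain ⟨σ, hσ⟩ := Cl.exists_uField hF
  have h2 := hσ.two_le
  by_cases h3 : q = 3
  · subst h3
    exact Or.inr (Or.inr (Or.inr (Or.inr (Or.inr (Or.inl
      ⟨F, inferInstance, inferInstance, hF, ⟨e⟩⟩)))))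
  exfalso
  obtain ⟨g, hg⟩ := Cl.spec_exists_singer_SU (n := 4) hσ (by norm_num)
  have h1 := (h.of_equiv e).dvd hg
  by_cases h5 : q = 5
  · subst h5
    revert h1
    decide
  have h4 := specM_lt (by omega) h1
  obtain ⟨k, rfl⟩ := hq
  simp only [Cl.specS, Finset.sum_range_succ, Finset.range_zero, Finset.sum_empty] at h4
  obtain ⟨r, hr⟩ : ∃ r : ℤ, ((2 * k + 1 : ℕ) : ℤ) = r + 7 := ⟨(2 * k + 1 : ℕ) - 7, by ring⟩
  have h0 : 0 ≤ r := by omega
  rw [hr] at h4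
  zify at h4
  have p2 := pow_nonneg h0 2
  have p3 := pow_nonneg h0 3
  rw [abs_of_nonpos (by nlinarith), abs_of_nonpos (by omega)] at h4
  nlinarith

theorem no_psu5 (h : St G) {F : Type} [Field F] [Fintype F] {q : ℕ}
    (hF : Fintype.card F = q ^ 2) (hq : q % 4 = 1) (e : G ≃* PSU 5 F q) : False := by
  obtain ⟨σ, hσ⟩ := Cl.exists_uField hF
  have h2 := hσ.two_le
  obtain ⟨g, hg⟩ := Cl.spec_exists_singer_SU (n := 5) hσ (by norm_num)
  have h1 := (h.of_equiv e).dvd hg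
  have h4 := specM_lt (by omega) h1
  simp only [Cl.specS, Finset.sum_range_succ, Finset.range_zero, Finset.sum_empty] at h4
  obtain ⟨r, hr⟩ : ∃ r : ℤ, (q : ℤ) = r + 5 := ⟨q - 5, by ring⟩
  have h0 : 0 ≤ r := by omega
  rw [hr] at h4
  zify at h4
  have p2 := pow_nonneg h0 2
  have p3 := pow_nonneg h0 3
  have p4 := pow_nonneg h0 4
  rw [abs_of_nonneg (by nlinarith), abs_of_nonpos (by omega)] at h4
  nlinarith

theorem card_psp4 {F : Type} [Field F] [Fintype F] (hF : Fintype.card F = 3) :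
    Nat.card (PSp 2 F) = 25920 := by
  have h1 := Cl.Sm.card_psp_mul (F := F) (m := 2) (by norm_num)
  rw [Cl.sp_card_std, Nat.card_eq_fintype_card (α := F), hF] at h1
  norm_num [Finset.prod_range_succ] at h1
  omega

theorem tgt_psp4 (h : St G) {F : Type} [Field F] [Fintype F]
    (hq : Odd (Fintype.card F) ∨ 4 ≤ Fintype.card F) (e : G ≃* PSp 2 F) : Tgt G := by
  have hq2 : 2 ≤ Fintype.card F := Fintype.one_lt_card
  by_cases h3 : Fintype.card F = 3
  · left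
    rw [Nat.card_congr e.toEquiv, card_psp4 h3]
    decide
  exfalso
  obtain ⟨p, hc', k, hp, -⟩ := FiniteField.card' F
  have := Fact.mk hp
  have hd : Nat.gcd 2 (Fintype.card F - 1) ∣ Fintype.card F ^ 2 + 1 := by
    rcases Nat.even_or_odd (Fintype.card F) with he | ho
    · have : Nat.gcd 2 (Fintype.card F - 1) = 1 := by
        obtain ⟨a, ha⟩ := he
        exact (Nat.Prime.coprime_iff_not_dvd Nat.prime_two).2 (by omega)
      rw [this]
      exact one_dvd _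
    · exact (Nat.gcd_dvd_left _ _).trans (ho.pow.add_one).two_dvd
  obtain ⟨x, hx⟩ := Perm.sp4_low (F := F) p
    (s := (Fintype.card F ^ 2 + 1) / Nat.gcd 2 (Fintype.card F - 1))
    (Or.inl (by rw [Nat.mul_div_cancel' hd]))
  have h1 := (h.of_equiv e).dvd hx
  generalize Fintype.card F = q at *
  have hg : Nat.gcd 2 (q - 1) ≤ 2 := Nat.gcd_le_left _ two_pos
  have hg0 : 0 < Nat.gcd 2 (q - 1) := Nat.gcd_pos_of_pos_left _ two_pos
  have h9 : q ^ 2 + 1 < 22 * Nat.gcd 2 (q - 1) :=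
    (Nat.div_lt_iff_lt_mul hg0).1 (Nat.lt_succ_of_le (om_le h1))
  have h8 : q ≤ 6 := by
    by_contra h8
    nlinarith
  clear hx h9 hg hg0 hd
  interval_cases q <;> first | omega | (revert h1; decide) | (revert hq; decide)

/-- A number above three that is odd, prime to five and not a multiple of nine. -/
theorem seven_dvd {a : ℕ} (h3 : 3 < a) (h2 : ¬ 2 ∣ a) (h5 : ¬ 5 ∣ a) (h9 : ¬ 9 ∣ a)
    (hp : ∀ p : ℕ, p.Prime → p ∣ a → p = 2 ∨ p = 3 ∨ p = 5 ∨ p = 7) : 7 ∣ a := by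
  by_contra h7
  have hk := Nat.eq_prime_pow_of_unique_prime_dvd (n := a) (p := 3) (by omega) fun {p} pp hd => by
    rcases hp p pp hd with rfl | rfl | rfl | rfl
    · exact absurd hd h2
    · rfl
    · exact absurd hd h5
    · exact absurd hd h7
  generalize a.primeFactorsList.length = k at hk
  subst hk
  rcases k with _ | _ | k
  · omega
  · omega
  · exact h9 (pow_dvd_pow 3 (show 2 ≤ k + 1 + 1 by omega))

theorem quad_mod (q : ℕ) : ¬ 2 ∣ q ^ 2 + q + 1 ∧ ¬ 5 ∣ q ^ 2 + q + 1 ∧ ¬ 9 ∣ q ^ 2 + q + 1 := by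
  have key : ∀ n : ℕ, [NeZero n] → (∀ x : ZMod n, x ^ 2 + x + 1 ≠ 0) → ¬ n ∣ q ^ 2 + q + 1 :=
    fun n _ hn hd => hn (q : ZMod n) (by exact_mod_cast (ZMod.natCast_eq_zero_iff _ n).2 hd)
  exact ⟨key 2 (by decide), key 5 (by decide), key 9 (by decide)⟩

theorem six_false {q : ℕ} (hq : 3 ≤ q)
    (hp : ∀ p : ℕ, p.Prime → p ∣ q ^ 6 - 1 → p = 2 ∨ p = 3 ∨ p = 5 ∨ p = 7) : False := by
  obtain ⟨r, rfl⟩ : ∃ r, q = r + 1 := ⟨q - 1, by omega⟩
  have e : (r + 1) ^ 6 - 1 =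
      ((r + 1) ^ 2 + (r + 1) + 1) * ((r ^ 2 + r + 1) * (r * (r + 2))) :=
    Nat.sub_eq_of_eq_add (by ring)
  rw [e] at hp
  obtain ⟨a2, a5, a9⟩ := quad_mod (r + 1)
  obtain ⟨b2, b5, b9⟩ := quad_mod r
  have ha := seven_dvd (by nlinarith) a2 a5 a9 fun p pp hd => hp p pp (hd.mul_right _)
  have hb := seven_dvd (by nlinarith) b2 b5 b9 fun p pp hd =>
    hp p pp ((hd.mul_right _).mul_left _)
  have key : ∀ x : ZMod 7, (x + 1) ^ 2 + (x + 1) + 1 = 0 → x ^ 2 + x + 1 ≠ 0 := by decide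
  exact key (r : ZMod 7) (by exact_mod_cast (ZMod.natCast_eq_zero_iff _ 7).2 ha)
    (by exact_mod_cast (ZMod.natCast_eq_zero_iff _ 7).2 hb)

theorem no_g2 (h : St G) (s : IsG2 G) : False := by
  obtain ⟨-, q, -, hq, hc⟩ := s
  exact six_false hq fun p pp hd => h.prime pp (hc ▸ (hd.mul_left _).mul_right _)

theorem no_3d4 (h : St G) (s : Is3D4 G) : False := by
  obtain ⟨-, q, hpp, hc⟩ := s
  have h2 := hpp.two_le
  by_cases hq : q = 2
  · subst hq
    have := h.prime (p := 13) (by norm_num) (by rw [hc]; norm_num)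
    omega
  exact six_false (q := q) (by omega) fun p pp hd =>
    h.prime pp (hc ▸ (hd.mul_left _).mul_right _)

theorem ree_false {r : ℕ} (hr : 3 ≤ r) (h3 : ¬ 7 ∣ r)
    (hp : ∀ p : ℕ, p.Prime → p ∣ (3 * r ^ 2) ^ 3 + 1 → p = 2 ∨ p = 3 ∨ p = 5 ∨ p = 7) : False := by
  obtain ⟨s, rfl⟩ : ∃ s, r = s + 1 := ⟨r - 1, by omega⟩
  have e : (3 * (s + 1) ^ 2) ^ 3 + 1 =
      (3 * (s + 1) ^ 2 + 3 * (s + 1) + 1) * ((3 * s ^ 2 + 3 * s + 1) * (3 * (s + 1) ^ 2 + 1)) := by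
    ring
  rw [e] at hp
  have key : ∀ (x n : ℕ), [NeZero n] → (∀ y : ZMod n, 3 * y ^ 2 + 3 * y + 1 ≠ 0) →
      ¬ n ∣ 3 * x ^ 2 + 3 * x + 1 :=
    fun x n _ hn hd => hn (x : ZMod n) (by exact_mod_cast (ZMod.natCast_eq_zero_iff _ n).2 hd)
  have ha := seven_dvd (by nlinarith) (key (s + 1) 2 (by decide)) (key (s + 1) 5 (by decide))
    (key (s + 1) 9 (by decide)) fun p pp hd => hp p pp (hd.mul_right _)
  have hb := seven_dvd (by nlinarith) (key s 2 (by decide)) (key s 5 (by decide))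
    (key s 9 (by decide)) fun p pp hd => hp p pp ((hd.mul_right _).mul_left _)
  have k7 : ∀ x : ZMod 7, 3 * (x + 1) ^ 2 + 3 * (x + 1) + 1 = 0 → 3 * x ^ 2 + 3 * x + 1 ≠ 0 := by
    decide
  exact k7 (s : ZMod 7) (by exact_mod_cast (ZMod.natCast_eq_zero_iff _ 7).2 ha)
    (by exact_mod_cast (ZMod.natCast_eq_zero_iff _ 7).2 hb)

theorem no_ree (h : St G) (s : IsRee G) : False := by
  obtain ⟨-, m, hm, hc⟩ := s
  have e : 3 ^ (2 * m + 1) = 3 * (3 ^ m) ^ 2 := by ring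
  rw [e] at hc
  refine ree_false (r := 3 ^ m) ?_ (fun hd => ?_) fun p pp hd =>
    h.prime pp (hc ▸ (hd.mul_left _).mul_right _)
  · exact le_self_pow₀ (by norm_num) (by omega)
  · have := (show Nat.Prime 7 by norm_num).dvd_of_dvd_pow hd
    omega

theorem no_suz (h : St G) (s : IsSuzuki G) : False := by
  obtain ⟨-, m, hm, hc⟩ := s
  have h8 : 2 ^ 3 ≤ 2 ^ (2 * m + 1) := Nat.pow_le_pow_right two_pos (by omega)
  have h4 : 4 ∣ 2 ^ (2 * m + 1) := pow_dvd_pow 2 (show 2 ≤ 2 * m + 1 by omega)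
  have := Or8.li2_five (a := 2 ^ (2 * m + 1)) (by omega) h4 fun p pp hd =>
    h.prime pp (hc ▸ (hd.mul_left _).mul_right _)
  omega

theorem no_eleven (h : St G) {n : ℕ} (hc : Nat.card G = n) (hn : 11 ∣ n) : False := by
  have := h.prime (p := 11) (by norm_num) (hc ▸ hn)
  omega

theorem no_j3 (h : St G) (s : IsJ3 G) : False := by
  have := h.prime (p := 17) (by norm_num) (by rw [s.2]; norm_num)
  omega

end Cfsg.Agent.C128
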