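import Mathlib
import Cfsg.Agent.C128.CSr
import Cfsg.Agent.C128.C1
import Cfsg.Agent.C128.C2
import Cfsg.Agent.C128.C3a
import Cfsg.Agent.C128.C3b

/-! A Sylow 2-subgroup of order 128 with an element of order 8 has sectional rank at most four. -/

set_option autoImplicit false

namespace Cfsg.Agent.C128

open Cfsg.Agent.Inv.Fz Cfsg.Agent.NE Subgroup

variable {G : Type*} [Group G] [Finite G]

theorem Cx.sr (c : Cx G) : Cfsg.SectionalPRankLE 2 4 G := by
  by_contra h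
  have ne : ∀ E, ¬ c.El E := fun E e => e.not_normal e.normal
  rcases c.of_not_sr h with ⟨E, e⟩ | ⟨A, z, b⟩
  · exact ne E e
  · obtain ⟨u, hu, uz, k⟩ := b.exists_in ne
    exact b.not_in ne hu uz k

theorem sr [IsSimpleGroup G] (hG : ¬ IsMulCommutative G)
    (s1 : ∀ g w : G, orderOf w = 8 → g * w = w * g → ∃ k : ℕ, g ^ 2 ^ k = 1)
    (s2 : ∀ g : G, orderOf g ≠ 14)
    (s3 : ∀ p : ℕ, p.Prime → p ∣ Nat.card G → p = 2 ∨ p = 3 ∨ p = 5 ∨ p = 7)
    (P : Sylow 2 G) (hP : Nat.card P = 128) {x : G} (hx : orderOf x = 8) :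
    Cfsg.SectionalPRankLE 2 4 G := by
  have : Fact (Nat.Prime 2) := ⟨Nat.prime_two⟩
  have h2 : IsPGroup 2 (zpowers x) := isPGroup_zpowers (k := 3) (by
    have := pow_orderOf_eq_one x
    rwa [hx] at this)
  obtain ⟨g, hg⟩ := exists_cj_le_sylow P h2
  refine Cx.sr ⟨P, g * x * g⁻¹, isSylIn_top P, inferInstance, hG, s1, s2, s3, hP,
    hg (conj_mem_cj.2 (mem_zpowers x)), ?_⟩
  rw [← hx]
  exact (orderOf_injective (MulAut.conj g).toMonoidHom (MulAut.conj g).injective x)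

end Cfsg.Agent.C128
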